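import Cfsg.Agent.GWP.SE
import Cfsg.Agent.GWP.Rho
import Cfsg.Agent.GWP.NY
import Cfsg.Agent.GWP.Gen
import Cfsg.Agent.H23.Nil

set_option autoImplicit false
set_option linter.unusedSectionVars false

namespace Cfsg.Agent.GWP
open Subgroup Cfsg
open Cfsg.Agent.BG (pCoreOf)
open scoped commutatorElement Pointwise
universe u
variable {G : Type u} [Group G] [Finite G]

/-- odd `V`-invariant subgroups have nilpotent derived group -/
theorem cf_of_inv (hP : PP G) {u v : G} (F : Four u v) {X : Subgroup G} (hX : Odd (Nat.card X)) (hI : Inv u v X) :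
    CF X := by
  refine H23.Nil.nil F.uu F.vv F.comm hX hI.1 hI.2 ?_ ?_
  · intro x hx h1 h2
    exact cent_odd hP F h1.symm h2.symm (odd_of_mem hX hx)
  · intro s hs x hx y hy h1 h2
    have hs1 : s ≠ 1 := by
      rcases hs with rfl | rfl | rfl
      · exact F.u1
      · exact F.v1
      · exact F.w1
    have hss : s * s = 1 := by
      rcases hs with rfl | rfl | rfl
      · exact F.uu
      · exact F.vv
      · exact F.ww
    exact K_comm hP hs1 hss ((mem_K hP hs1 hss).2 ⟨h1.symm, odd_of_mem hX hx⟩)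
      ((mem_K hP hs1 hss).2 ⟨h2.symm, odd_of_mem hX hy⟩)

theorem odd_of_pgroup {q : ℕ} [Fact q.Prime] (hq : q ≠ 2) {X : Subgroup G} (h : IsPGroup q X) :
    Odd (Nat.card X) := by
  obtain ⟨n, hn⟩ := IsPGroup.iff_card.1 h
  rw [hn]
  exact ((Fact.out : q.Prime).odd_of_ne_two hq).pow

/-- `V` normalises the odd part of a normaliser of a `V`-invariant subgroup -/
theorem Inv_OO {u v : G} (F : Four u v) {Y : Subgroup G} (hY : Inv u v Y) :
    Inv u v (OO (normalizer (Y : Set G))) := by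
  have hu := Inv.mem_normalizer F.uu hY.1
  have hv := Inv.mem_normalizer F.vv hY.2
  exact ⟨fun x hx => OO_conj (le_normalizer hu) hx, fun x hx => OO_conj (le_normalizer hv) hx⟩

/-- `T` is a Sylow `q`-subgroup of every odd `V`-invariant overgroup -/
theorem T_max (hP : PP G) {u v : G} (F : Four u v) {q : ℕ} [Fact q.Prime] (hq : q ≠ 2)
    (hT : IsPGroup q (T q u v)) {X : Subgroup G} (hX : Odd (Nat.card X)) (hI : Inv u v X) (hTX : T q u v ≤ X)
    (hTI : Inv u v (T q u v)) :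
    MaxQ q X (T q u v) := by
  refine ⟨hTX, hT, ?_⟩
  -- an invariant Sylow subgroup
  set V : Subgroup G := Subgroup.closure {u, v} with hV
  have huV : u ∈ V := Subgroup.subset_closure (Or.inl rfl)
  have hvV : v ∈ V := Subgroup.subset_closure (Or.inr rfl)
  have hVle : ∀ {Y : Subgroup G}, Inv u v Y → V ≤ normalizer (Y : Set G) := by
    intro Y hY
    rw [hV, Subgroup.closure_le]
    rintro z (rfl | rfl)
    · exact Inv.mem_normalizer F.uu hY.1
    · exact Inv.mem_normalizer F.vv hY.2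
  have hVabel : ∀ a ∈ V, ∀ b ∈ V, a * b = b * a := by
    intro a ha b hb
    exact H23.Nil.closure_pair_comm F.comm a ha b hb
  have hcop : (Nat.card V).Coprime (Nat.card X) := (H23.Nil.closure_pair_coprime F.uu F.vv F.comm hX).symm
  have hsol : Group.IsSolvable V := by
    letI : CommGroup V := { (inferInstance : Group V) with
      mul_comm := fun a b => Subtype.ext (hVabel a a.2 b b.2) }
    infer_instance
  obtain ⟨P, hTP, hPV⟩ := Cop.exists_invariant_sylow_ge (hVle hI) hcop (Or.inl hsol) q hTX hT (hVle hTI)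
  have hPT : (P : Subgroup X).map X.subtype ≤ T q u v := by
    apply le_T hP hq F (P.isPGroup'.map _)
    exact ⟨fun x hx => (mem_normalizer_iff.1 (hPV huV) x).1 hx, fun x hx => (mem_normalizer_iff.1 (hPV hvV) x).1 hx⟩
  have heq : (P : Subgroup X).map X.subtype = T q u v := le_antisymm hPT hTP
  intro R hRX hRq hTR
  have h1 : (P : Subgroup X) ≤ R.subgroupOf X := by
    intro x hx
    rw [mem_subgroupOf]
    exact hTR (hPT ⟨x, hx, rfl⟩)
  have h2 := P.is_maximal' (hRq.comap_of_injective _ X.subtype_injective) h1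
  intro x hx
  rw [← heq]
  refine ⟨⟨x, hRX hx⟩, ?_, rfl⟩
  have : (⟨x, hRX hx⟩ : X) ∈ R.subgroupOf X := by rw [mem_subgroupOf]; exact hx
  exact (SetLike.ext_iff.1 h2 _).1 this

theorem mem_normalizer_of_comm {Y : Subgroup G} {x : G} (h : ∀ y ∈ Y, x * y = y * x) :
    x ∈ normalizer (Y : Set G) := by
  rw [mem_normalizer_iff]
  intro y
  constructor
  · intro hy; rw [h y hy, mul_inv_cancel_right]; exact hy
  · intro hy
    have h1 := h _ hy
    have h2 : x * y * x⁻¹ = y := by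
      have h3 : x * (x * y * x⁻¹) * x⁻¹ = x * y * x⁻¹ := by rw [h1]; group
      have h4 := congrArg (fun z => x⁻¹ * z * x) h3
      simp only [mul_assoc, inv_mul_cancel_left, inv_mul_cancel, mul_one] at h4
      simpa [mul_assoc] using h4
    rwa [h2] at hy

theorem mem_OO_of_comm {Y : Subgroup G} {x : G} (h : ∀ y ∈ Y, x * y = y * x) (ho : Odd (orderOf x)) :
    x ∈ OO (normalizer (Y : Set G)) := Subgroup.subset_closure ⟨mem_normalizer_of_comm h, ho⟩

theorem normalizer_centralizer_le {Y : Subgroup G} {g : G} (hg : g ∈ normalizer (Y : Set G)) {z : G}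
    (hz : z ∈ centralizer (Y : Set G)) : g * z * g⁻¹ ∈ centralizer (Y : Set G) := by
  rw [mem_centralizer_iff] at hz ⊢
  intro y hy
  have h1 : g⁻¹ * y * g ∈ Y := by
    have := (mem_normalizer_iff.1 (inv_mem hg) y).1 hy
    rwa [inv_inv] at this
  have h2 := hz _ h1
  calc y * (g * z * g⁻¹) = g * ((g⁻¹ * y * g) * z) * g⁻¹ := by group
    _ = g * (z * (g⁻¹ * y * g)) * g⁻¹ := by rw [h2]
    _ = g * z * g⁻¹ * y := by group

theorem t_ab [IsSimpleGroup G] (hG : Core G) {u v : G} (F : Four u v) {q : ℕ} [Fact q.Prime] (hq : q ≠ 2)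
    (hT : IsPGroup q (T q u v)) (h1 : Kq q u ≠ ⊥) : ∀ a ∈ T q u v, ∀ b ∈ T q u v, a * b = b * a := by
  have hP := hG.pp
  have hTI : Inv u v (T q u v) := TI.Inv_of_norm (TI.u_mem_norm hP F) (TI.v_mem_norm hP F)
  have hTo := odd_of_pgroup hq hT
  obtain ⟨r, hru, hrv⟩ := rho hG F
  have hrN : r ∈ normalizer (T q u v : Set G) :=
    T_conj hP F (Or.inr (Or.inl hru)) (Or.inr (Or.inr hrv))
  set Z : Subgroup G := T q u v ⊓ centralizer (T q u v : Set G) with hZ
  have hZN : ∀ g ∈ normalizer (T q u v : Set G), ∀ z ∈ Z, g * z * g⁻¹ ∈ Z := fun g hg z hz =>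
    ⟨(mem_normalizer_iff.1 hg z).1 hz.1, normalizer_centralizer_le hg hz.2⟩
  have hTn : Nontrivial (T q u v) := by
    rw [Subgroup.nontrivial_iff_ne_bot]
    intro h
    exact h1 (le_bot_iff.1 ((TI.Kq_le_T1 q u v).trans h.le))
  have hZ1 : Z ≠ ⊥ := by
    intro h
    have h2 := hT.center_nontrivial
    obtain ⟨z, hz⟩ := exists_ne (1 : center (T q u v))
    apply hz
    have h3 : ((z : T q u v) : G) ∈ Z := by
      refine ⟨(z : T q u v).2, mem_centralizer_iff.2 fun y hy => ?_⟩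
      exact congrArg Subtype.val (Subgroup.mem_center_iff.1 z.2 ⟨y, hy⟩)
    rw [h, Subgroup.mem_bot] at h3
    exact Subtype.ext (Subtype.ext h3)
  have hZo : Odd (Nat.card Z) := Odd.of_dvd_nat hTo (Subgroup.card_dvd_of_le inf_le_left)
  have hri : r⁻¹ ∈ normalizer (T q u v : Set G) := inv_mem hrN
  have hne : Z ⊓ K u ≠ ⊥ := by
    intro h
    have e1 : r⁻¹ * v * r⁻¹⁻¹ = u := by rw [← hru]; group
    have e2 : r⁻¹ * (u * v) * r⁻¹⁻¹ = v := by rw [← hrv]; group
    have a1 : ∀ y ∈ Z ⊓ K u, y = 1 := by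
      intro y hy; rw [h, Subgroup.mem_bot] at hy; exact hy
    have a2 : ∀ y ∈ Z ⊓ K v, y = 1 := by
      rintro y ⟨hy1, hy2⟩
      have h3 := K_conj r⁻¹ v hy2
      rw [e1] at h3
      have h4 := a1 _ ⟨hZN _ hri y hy1, h3⟩
      exact conj_eq_one_iff.1 h4
    have a3 : ∀ y ∈ Z ⊓ K (u * v), y = 1 := by
      rintro y ⟨hy1, hy2⟩
      have h3 := K_conj r⁻¹ (u * v) hy2
      rw [e2] at h3
      have h4 := a2 _ ⟨hZN _ hri y hy1, h3⟩
      exact conj_eq_one_iff.1 h4
    apply hZ1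
    rw [← le_bot_iff]
    exact le_of_parts hP F hZo ⟨hZN _ (TI.u_mem_norm hP F), hZN _ (TI.v_mem_norm hP F)⟩
      (fun y hy => a1 y hy) (fun y hy => a2 y hy) (fun y hy => a3 y hy)
  obtain ⟨hN1, hN2⟩ := ny hP F (Y := Z ⊓ K u) inf_le_right hne
  set X := OO (normalizer ((Z ⊓ K u : Subgroup G) : Set G)) with hX
  have hXo : Odd (Nat.card X) := OO_odd hN1
  have hXI : Inv u v X := Inv_OO F (Inv_of_le hP F inf_le_right)
  have hTX : T q u v ≤ X := fun x hx =>
    mem_OO_of_comm (fun y hy => mem_centralizer_iff.1 hy.1.2 x hx) (odd_of_mem hTo hx)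
  have hKX : K u ≤ X := fun x hx =>
    mem_OO_of_comm (fun y hy => K_comm hP F.u1 F.uu hx hy.2) ((mem_K hP F.u1 F.uu).1 hx).2
  have hd := normalizes_derived (cf_of_inv hP F hXo hXI) (T_max hP F hq hT hXo hXI hTX hTI)
  have hdle : (⁅T q u v, T q u v⁆ : Subgroup G) ≤ T q u v := by
    rw [commutator_le]
    intro x hx y hy
    exact mul_mem (mul_mem (mul_mem hx hy) (inv_mem hx)) (inv_mem hy)
  by_cases hW : (⁅T q u v, T q u v⁆ : Subgroup G) = ⊥
  · intro a ha b hb
    have h2 : ⁅a, b⁆ ∈ (⁅T q u v, T q u v⁆ : Subgroup G) := commutator_mem_commutator ha hb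
    rw [hW, Subgroup.mem_bot] at h2
    exact commutatorElement_eq_one_iff_mul_comm.1 h2
  · exfalso
    refine tw hG F hq hq hT hT hW (Odd.of_dvd_nat hTo (Subgroup.card_dvd_of_le hdle)) ?_ (hKX.trans hd)
    intro g hg
    exact normalizer_le_commutator _ _ hg.1 hg.1

end Cfsg.Agent.GWP
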