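import Cfsg.Agent.GWP.AsD
import Cfsg.Agent.DihSyl.Basic

set_option autoImplicit false
set_option linter.unusedSectionVars false

/-! The case where `j` is not 2-central (dihedral Sylow 2-subgroup): the subgroup of index two modulo its odd core. -/

namespace Cfsg.Agent.GWP
open Subgroup DihSyl
open scoped Pointwise
universe u

section
variable {Q : Type u} [Group Q] [Finite Q]

/-- the product `K⟨r⟩` -/
def prodK (K : Subgroup Q) (r : Q) (hKr : ∀ k ∈ K, r * k = k * r) :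
    Subgroup Q where
  carrier := {g | ∃ k ∈ K, ∃ c ∈ zpowers r, g = k * c}
  mul_mem' := by
    rintro _ _ ⟨k, hk, c, hc, rfl⟩ ⟨k', hk', c', hc', rfl⟩
    have h1 : Commute c k' := by
      obtain ⟨n, rfl⟩ := mem_zpowers_iff.1 hc
      exact (show Commute r k' from hKr k' hk').zpow_left n
    refine ⟨k * k', mul_mem hk hk', c * c', mul_mem hc hc', ?_⟩
    calc k * c * (k' * c') = k * (c * k') * c' := by group
      _ = k * (k' * c) * c' := by rw [h1.eq]
      _ = k * k' * (c * c') := by group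
  one_mem' := ⟨1, one_mem _, 1, one_mem _, by rw [one_mul]⟩
  inv_mem' := by
    rintro _ ⟨k, hk, c, hc, rfl⟩
    have h1 : Commute c k := by
      obtain ⟨n, rfl⟩ := mem_zpowers_iff.1 hc
      exact (show Commute r k from hKr k hk).zpow_left n
    refine ⟨k⁻¹, inv_mem hk, c⁻¹, inv_mem hc, ?_⟩
    rw [mul_inv_rev]
    exact (h1.inv_inv).eq

theorem comm_zpow {K : Subgroup Q} {r : Q} (hKr : ∀ k ∈ K, r * k = k * r) {k c : Q} (hk : k ∈ K)
    (hc : c ∈ zpowers r) : c * k = k * c := by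
  obtain ⟨n, rfl⟩ := mem_zpowers_iff.1 hc
  exact ((show Commute r k from hKr k hk).zpow_left n).eq

theorem cen_quo_of {T : Sylow 2 Q} {r u z : Q} {m : ℕ} (D : DihData (T : Subgroup Q) r u m)
    (hz : z ∈ zpowers r) (z1 : z ≠ 1) (zz : z * z = 1) {K : Subgroup Q} (hKo : Odd (Nat.card K))
    (hKab : ∀ a ∈ K, ∀ b ∈ K, a * b = b * a) (hKu : ∀ k ∈ K, u * k * u⁻¹ ∈ K) (hKr : ∀ k ∈ K, r * k = k * r)
    (hC : ∀ g : Q, g * z = z * g → ∃ k ∈ K, ∃ t ∈ (T : Subgroup Q), g = k * t)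
    (hW : ∀ k ∈ K, k * u = u * k → k ∈ Cfsg.pPrimeCore 2 Q) :
    Cen ((prodK K r hKr).map (QuotientGroup.mk' (Cfsg.pPrimeCore 2 Q))) ((z : Q ⧸ Cfsg.pPrimeCore 2 Q))
      ((u : Q ⧸ Cfsg.pPrimeCore 2 Q)) := by
  have hOo : Odd (Nat.card (Cfsg.pPrimeCore 2 Q)) := H4.odd_card_pPrimeCore_two
  set O := Cfsg.pPrimeCore 2 Q with hO
  set B := prodK K r hKr with hB
  obtain ⟨z', hz', hz'2, huniq, -⟩ := D.exists_z
  have hzz' : z = z' := (huniq z hz zz).resolve_left z1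
  have hBab : ∀ a ∈ B, ∀ b ∈ B, a * b = b * a := by
    rintro _ ⟨k, hk, c, hc, rfl⟩ _ ⟨k', hk', c', hc', rfl⟩
    have h1 := comm_zpow hKr hk' hc
    have h2 := comm_zpow hKr hk hc'
    have h3 := hKab k hk k' hk'
    have h4 : c * c' = c' * c := D.comm_C hc hc'
    calc k * c * (k' * c') = k * (c * k') * c' := by group
      _ = k * k' * (c * c') := by rw [h1]; group
      _ = k' * k * (c' * c) := by rw [h3, h4]
      _ = k' * (k * c') * c := by group
      _ = k' * c' * (k * c) := by rw [← h2]; group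
  -- elements of `B` of square one
  have hBsq : ∀ b ∈ B, b * b = 1 → b = 1 ∨ b = z := by
    rintro _ ⟨k, hk, c, hc, rfl⟩ hbb
    have h1 := comm_zpow hKr hk hc
    have h2 : (k * k) * (c * c) = 1 := by
      rw [← hbb]
      calc (k * k) * (c * c) = k * (k * c) * c := by group
        _ = k * (c * k) * c := by rw [h1]
        _ = k * c * (k * c) := by group
    have h3 : k * k = (c * c)⁻¹ := eq_inv_of_mul_eq_one_left h2
    -- odd and 2-power order
    have h4 : Odd (orderOf (k * k)) := odd_of_mem hKo (mul_mem hk hk)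
    have h5 : (k * k) ∈ (T : Subgroup Q) := by
      rw [h3]
      exact inv_mem (mul_mem (D.C_le hc) (D.C_le hc))
    have h6 : k * k = 1 := by
      obtain ⟨e, he⟩ := T.isPGroup' ⟨_, h5⟩
      have he' : (k * k) ^ 2 ^ e = 1 := congrArg Subtype.val he
      have h7 := orderOf_dvd_of_pow_eq_one he'
      obtain ⟨i, -, hi⟩ := (Nat.dvd_prime_pow Nat.prime_two).1 h7
      rw [hi] at h4
      rcases Nat.eq_zero_or_pos i with h8 | h8
      · rw [h8, pow_zero] at hi; exact orderOf_eq_one_iff.1 hi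
      · exact absurd h4 (by rw [Nat.not_odd_iff_even]; exact Nat.even_pow.2 ⟨even_two, h8.ne'⟩)
    have h7 : k = 1 := eq_one_of_sq (odd_of_mem hKo hk) h6
    have h8 : c * c = 1 := by rw [h7] at h2; simpa using h2
    rw [h7, one_mul, hzz']
    exact huniq c hc h8
  have hBq : ∀ b ∈ B, (b : Q ⧸ O) * (b : Q ⧸ O) = 1 → (b : Q ⧸ O) = 1 ∨ (b : Q ⧸ O) = (z : Q ⧸ O) := by
    intro a ha h
    have h1 : a * a ∈ O := (QuotientGroup.eq_one_iff (a * a)).1 h
    obtain ⟨k, hk⟩ := odd_of_mem hOo h1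
    have h2 : ((a ^ (2 * k + 1) : Q) : Q ⧸ O) = (a : Q ⧸ O) := by
      rw [pow_succ, pow_mul, QuotientGroup.mk_mul, QuotientGroup.mk_pow, pow_two,
        (QuotientGroup.eq_one_iff (a * a)).2 h1, one_pow, one_mul]
    have h3 : a ^ (2 * k + 1) * a ^ (2 * k + 1) = 1 := by
      rw [← pow_add]
      have : 2 * k + 1 + (2 * k + 1) = 2 * orderOf (a * a) := by omega
      rw [this, pow_mul, pow_two, pow_orderOf_eq_one]
    rcases hBsq _ (pow_mem ha _) h3 with h4 | h4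
    · left
      rw [← h2, h4]; rfl
    · right
      rw [← h2, h4]
  have hzB : z ∈ B := ⟨1, one_mem _, z, hz, by rw [one_mul]⟩
  have hnotO : ∀ t : Q, t ≠ 1 → t * t = 1 → t ∉ O := fun t t1 tt ht =>
    t1 (eq_one_of_sq (odd_of_mem hOo ht) tt)
  have hzq1 : (z : Q ⧸ O) ≠ 1 := fun h => hnotO z z1 zz ((QuotientGroup.eq_one_iff z).1 h)
  refine ⟨?_, ⟨z, hzB, rfl⟩, hzq1, ?_, ?_, ?_, ?_, ?_, ?_⟩
  · rintro _ ⟨a, ha, rfl⟩ _ ⟨b, hb, rfl⟩
    rw [← map_mul, ← map_mul, hBab a ha b hb]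
  · rw [← QuotientGroup.mk_mul, zz]; rfl
  · rintro _ ⟨a, ha, rfl⟩ h
    exact hBq a ha h
  · rintro ⟨a, ha, h⟩
    have h0 : (a : Q ⧸ O) = (u : Q ⧸ O) := h
    have h1 : (a : Q ⧸ O) * (a : Q ⧸ O) = 1 := by
      rw [h0, ← QuotientGroup.mk_mul, D.s_sq]; rfl
    rcases hBq a ha h1 with h2 | h2
    · rw [h0] at h2
      exact hnotO u (D.ne_one D.s_notMem) D.s_sq ((QuotientGroup.eq_one_iff u).1 h2)
    · rw [h0] at h2
      have h3 : u * z ∈ O := by
        have h4 : u⁻¹ * z ∈ O := QuotientGroup.eq.1 h2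
        rwa [D.s_inv] at h4
      have h4 : u * z ∉ zpowers r := D.mul_notMem hz
      have h5 : u * z ∈ (T : Subgroup Q) := mul_mem D.s_mem (D.C_le hz)
      exact hnotO _ (D.ne_one h4) (D.sq_eq_one h5 h4) h3
  · rw [← QuotientGroup.mk_mul, D.s_sq]; rfl
  · rintro _ ⟨a, ⟨k, hk, c, hc, rfl⟩, rfl⟩
    have h1 := D.conj_zpow hc
    set y := u * k * u⁻¹ with hy
    have hyK : y ∈ K := hKu k hk
    have h2 : (k * y) * u = u * (k * y) := by
      have huu : u⁻¹ = u := D.s_inv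
      have h3 : u * (k * y) = y * (u * y) := by rw [hy]; group
      have h4 : u * y = k * u := by
        rw [hy, huu]
        calc u * (u * k * u) = (u * u) * k * u := by group
          _ = k * u := by rw [D.s_sq, one_mul]
      calc (k * y) * u = (y * k) * u := by rw [hKab k hk y hyK]
        _ = y * (k * u) := by group
        _ = y * (u * y) := by rw [h4]
        _ = u * (k * y) := h3.symm
    have h3 := hW (k * y) (mul_mem hk hyK) h2
    have h4 : ((u * k * u⁻¹ : Q) : Q ⧸ O) = ((k⁻¹ : Q) : Q ⧸ O) := by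
      rw [← hy]
      have h5 : ((k * y : Q) : Q ⧸ O) = 1 := (QuotientGroup.eq_one_iff _).2 h3
      rw [QuotientGroup.mk_mul] at h5
      rw [QuotientGroup.mk_inv]
      exact eq_inv_of_mul_eq_one_right h5
    have h5 : u * (k * c) * u⁻¹ = (u * k * u⁻¹) * (u * c * u⁻¹) := by group
    change ((u * (k * c) * u⁻¹ : Q) : Q ⧸ O) = (((k * c)⁻¹ : Q) : Q ⧸ O)
    rw [h5, QuotientGroup.mk_mul, h4, h1, ← QuotientGroup.mk_mul]
    congr 1
    rw [mul_inv_rev]
    exact (comm_zpow hKr (inv_mem hk) (inv_mem hc)).symm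
  · intro w hw
    obtain ⟨g, rfl⟩ := QuotientGroup.mk_surjective w
    have h1 : g * z * g⁻¹ * z⁻¹ ∈ O := by
      rw [← QuotientGroup.eq_one_iff]
      have h2 : ((g * z : Q) : Q ⧸ O) = ((z * g : Q) : Q ⧸ O) := hw
      have h3 : g * z * g⁻¹ * z⁻¹ = (g * z) * (z * g)⁻¹ := by group
      rw [h3, QuotientGroup.mk_mul, QuotientGroup.mk_inv, h2, mul_inv_cancel]
    obtain ⟨o, ho, hoc⟩ := comm_quo hOo zz h1
    have h4 : ((o * g : Q) : Q ⧸ O) = (g : Q ⧸ O) := by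
      rw [QuotientGroup.mk_mul, (QuotientGroup.eq_one_iff o).2 ho, one_mul]
    obtain ⟨k, hk, t, ht, hkt⟩ := hC (o * g) hoc
    by_cases htr : t ∈ zpowers r
    · left
      exact ⟨o * g, ⟨k, hk, t, htr, hkt⟩, h4⟩
    · right
      obtain ⟨c, hc, hc'⟩ := D.exists_eq ht htr
      refine ⟨o * g * u, ⟨k, hk, c⁻¹, inv_mem hc, ?_⟩, ?_⟩
      · rw [hkt, hc', mul_assoc, mul_assoc]
        congr 1
        have := D.conj_zpow hc
        rw [D.s_inv] at this
        rw [← mul_assoc]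
        exact this
      · change ((o * g * u : Q) : Q ⧸ O) = (g : Q ⧸ O) * (u : Q ⧸ O)
        rw [QuotientGroup.mk_mul, h4]

/-- the image of `Core` data -/
theorem core_of_data {T : Sylow 2 Q} {r u z : Q} {m : ℕ} (D : DihData (T : Subgroup Q) r u m)
    (hz : z ∈ zpowers r) (z1 : z ≠ 1) (zz : z * z = 1) {K : Subgroup Q} (hKo : Odd (Nat.card K))
    (hKab : ∀ a ∈ K, ∀ b ∈ K, a * b = b * a) (hKu : ∀ k ∈ K, u * k * u⁻¹ ∈ K) (hKr : ∀ k ∈ K, r * k = k * r)
    (hC : ∀ g : Q, g * z = z * g → ∃ k ∈ K, ∃ t ∈ (T : Subgroup Q), g = k * t)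
    (hW : ∀ k ∈ K, k * u = u * k → k ∈ Cfsg.pPrimeCore 2 Q)
    (hconj : ∀ t : Q, t ≠ 1 → t * t = 1 → ∃ g : Q, g * t * g⁻¹ = z) : Core (Q ⧸ Cfsg.pPrimeCore 2 Q) := by
  have hOo : Odd (Nat.card (Cfsg.pPrimeCore 2 Q)) := H4.odd_card_pPrimeCore_two
  have HQ := cen_quo_of D hz z1 zz hKo hKab hKu hKr hC hW
  refine ⟨?_, ?_⟩
  · intro w w1 ww
    obtain ⟨t, t1, tt, rfl⟩ := lift_inv hOo w1 ww
    obtain ⟨g, hg⟩ := hconj t t1 tt
    have h1 := HQ.conj ((g : Q ⧸ Cfsg.pPrimeCore 2 Q)⁻¹)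
    have h2 : (g : Q ⧸ Cfsg.pPrimeCore 2 Q)⁻¹ * (z : Q ⧸ Cfsg.pPrimeCore 2 Q) *
        ((g : Q ⧸ Cfsg.pPrimeCore 2 Q)⁻¹)⁻¹ = (t : Q ⧸ Cfsg.pPrimeCore 2 Q) := by
      rw [← hg, QuotientGroup.mk_mul, QuotientGroup.mk_mul, QuotientGroup.mk_inv]
      group
    rw [h2] at h1
    exact ⟨_, _, h1⟩
  · intro w v w1 ww v1 vv
    obtain ⟨s, s1, ss, rfl⟩ := lift_inv hOo w1 ww
    obtain ⟨t, t1, tt, rfl⟩ := lift_inv hOo v1 vv
    obtain ⟨g, hg⟩ := hconj s s1 ss
    obtain ⟨h, hh⟩ := hconj t t1 tt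
    refine ⟨((h⁻¹ * g : Q) : Q ⧸ Cfsg.pPrimeCore 2 Q), ?_⟩
    have h1 : h⁻¹ * g * s * (h⁻¹ * g)⁻¹ = t := by
      calc h⁻¹ * g * s * (h⁻¹ * g)⁻¹ = h⁻¹ * (g * s * g⁻¹) * h := by group
        _ = h⁻¹ * (h * t * h⁻¹) * h := by rw [hg, hh]
        _ = t := by group
    rw [← h1]
    rfl

theorem psl_of_data (hns : ¬ Group.IsSolvable Q) {T : Sylow 2 Q} {r u z : Q} {m : ℕ}
    (D : DihData (T : Subgroup Q) r u m)
    (hz : z ∈ zpowers r) (z1 : z ≠ 1) (zz : z * z = 1) {K : Subgroup Q} (hKo : Odd (Nat.card K))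
    (hKab : ∀ a ∈ K, ∀ b ∈ K, a * b = b * a) (hKu : ∀ k ∈ K, u * k * u⁻¹ ∈ K) (hKr : ∀ k ∈ K, r * k = k * r)
    (hC : ∀ g : Q, g * z = z * g → ∃ k ∈ K, ∃ t ∈ (T : Subgroup Q), g = k * t)
    (hW : ∀ k ∈ K, k * u = u * k → k ∈ Cfsg.pPrimeCore 2 Q)
    (hconj : ∀ t : Q, t ≠ 1 → t * t = 1 → ∃ g : Q, g * t * g⁻¹ = z) :
    ∃ (F : Type) (_ : Field F) (_ : Fintype F), 3 < Fintype.card F ∧ Odd (Fintype.card F) ∧
      Nonempty (Q ⧸ Cfsg.pPrimeCore 2 Q ≃* Matrix.ProjectiveSpecialLinearGroup (Fin 2) F) := by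
  have hOo : Odd (Nat.card (Cfsg.pPrimeCore 2 Q)) := H4.odd_card_pPrimeCore_two
  have hcore := core_of_data D hz z1 zz hKo hKab hKu hKr hC hW hconj
  have hno : ∀ M : Subgroup Q, M.index ≠ 2 := by
    apply no_index_two_of_isConj D
    intro a b ha hb
    have ha1 : a ≠ 1 := by rintro rfl; rw [orderOf_one] at ha; omega
    have hb1 : b ≠ 1 := by rintro rfl; rw [orderOf_one] at hb; omega
    obtain ⟨g, hg⟩ := hconj a ha1 (H4.mul_self_of_orderOf_two ha)
    obtain ⟨k, hk⟩ := hconj b hb1 (H4.mul_self_of_orderOf_two hb)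
    rw [isConj_iff]
    refine ⟨k⁻¹ * g, ?_⟩
    have h1 : k⁻¹ * g * a * (k⁻¹ * g)⁻¹ = k⁻¹ * (g * a * g⁻¹) * k := by group
    rw [h1, hg, ← hk]
    group
  apply psl_of_core (quo_ns hns hOo) ?_ ?_ hcore
  · intro N hN hNo
    have h1 : N ≤ Cfsg.pPrimeCore 2 (Q ⧸ Cfsg.pPrimeCore 2 Q) := le_sSup ⟨hN, Nat.coprime_two_right.2 hNo⟩
    have h2 : Cfsg.pPrimeCore 2 (Q ⧸ Cfsg.pPrimeCore 2 Q) = ⊥ := Cfsg.Agent.Solv.pPrimeCore_quotient_pPrimeCore 2
    exact le_bot_iff.1 (h1.trans h2.le)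
  · intro M hM
    apply hno (M.comap (QuotientGroup.mk' (Cfsg.pPrimeCore 2 Q)))
    rw [Subgroup.index_comap_of_surjective M (QuotientGroup.mk'_surjective _), hM]

end

section
variable {G : Type u} [Group G] [Finite G]

/-- final identification of `PGL(2, q)` -/
theorem m3 (hns : ¬ Group.IsSolvable G) {A : Subgroup G} {j x : G} (H : Cen A j x) (S : Sylow 2 G)
    {G0 : Subgroup G} (hG0i : G0.index = 2)
    (hSc : ∀ t ∈ (S : Subgroup G), (∀ s ∈ (S : Subgroup G), t * s = s * t) → t ∈ G0)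
    {T0 : Sylow 2 G0} {r u z : G0} {m : ℕ} (D : DihData (T0 : Subgroup G0) r u m)
    (hz : z ∈ zpowers r) (z1 : z ≠ 1) (zz : z * z = 1) {K : Subgroup G0} (hKo : Odd (Nat.card K))
    (hKab : ∀ a ∈ K, ∀ b ∈ K, a * b = b * a) (hKu : ∀ k ∈ K, u * k * u⁻¹ ∈ K) (hKr : ∀ k ∈ K, r * k = k * r)
    (hC : ∀ g : G0, g * z = z * g → ∃ k ∈ K, ∃ t ∈ (T0 : Subgroup G0), g = k * t)
    (hW : ∀ k ∈ K, k * u = u * k → k ∈ Cfsg.pPrimeCore 2 G0)
    (hconj : ∀ t : G0, t ≠ 1 → t * t = 1 → ∃ g : G0, g * t * g⁻¹ = z) :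
    ∃ (N : Subgroup G) (_ : N.Normal), Odd (Nat.card ↥N) ∧
      ∃ (F : Type) (_ : Field F) (_ : Fintype F), 3 < Fintype.card F ∧
        (Nonempty (G ⧸ N ≃* Matrix.ProjectiveSpecialLinearGroup (Fin 2) F) ∨
          Nonempty (G ⧸ N ≃* Matrix.ProjGenLinGroup (Fin 2) F)) := by
  haveI : Fact (Nat.Prime 2) := ⟨Nat.prime_two⟩
  haveI hG0n : G0.Normal := normal_of_index_eq_two hG0i
  have hG0s : ¬ Group.IsSolvable G0 := fun h => hns (solv_of_index_two h hG0i)
  obtain ⟨F, iF, jF, h3, hFodd, ⟨e0⟩⟩ := psl_of_data hG0s D hz z1 zz hKo hKab hKu hKr hC hW hconj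
  have hcore := core_of_data D hz z1 zz hKo hKab hKu hKr hC hW hconj
  set O0 := Cfsg.pPrimeCore 2 G0 with hO0
  set O : Subgroup G := O0.map G0.subtype with hO
  have hOn : O.Normal := by
    haveI : O0.Characteristic := Cfsg.Agent.Solv.pPrimeCore_characteristic 2
    exact ConjAct.normal_of_characteristic_of_normal
  have hOG : O ≤ G0 := map_subtype_le _
  have hOodd : Odd (Nat.card O) := by
    have h1 : Nat.card O = Nat.card O0 :=
      Nat.card_congr (Subgroup.equivMapOfInjective O0 _ G0.subtype_injective).symm.toEquiv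
    rw [h1]; exact Cfsg.Agent.H4.odd_card_pPrimeCore_two
  have hOodd0 : Odd (Nat.card O0) := Cfsg.Agent.H4.odd_card_pPrimeCore_two
  set M : Subgroup (G ⧸ O) := G0.map (QuotientGroup.mk' O) with hM
  have hMG : ∀ g : G, (g : G ⧸ O) ∈ M → g ∈ G0 := by
    rintro g ⟨g', hg', h⟩
    have h1 : g'⁻¹ * g ∈ O := QuotientGroup.eq.1 h
    have h2 : g = g' * (g'⁻¹ * g) := by group
    rw [h2]; exact mul_mem hg' (hOG h1)
  have hMi : M.index = 2 := by
    have h1 := Subgroup.index_comap_of_surjective M (QuotientGroup.mk'_surjective O)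
    have h2 : M.comap (QuotientGroup.mk' O) = G0 := by
      apply le_antisymm
      · intro g hg; exact hMG g hg
      · intro g hg; exact ⟨g, hg, rfl⟩
    rw [← h1, h2, hG0i]
  let f : G0 →* M := (QuotientGroup.mk' O).subgroupMap G0
  have hf : Function.Surjective f := (QuotientGroup.mk' O).subgroupMap_surjective G0
  have hfk : f.ker = O0 := by
    ext g
    rw [MonoidHom.mem_ker]
    constructor
    · intro h
      have h1 : ((g : G) : G ⧸ O) = 1 := congrArg Subtype.val h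
      obtain ⟨w, hw, hw'⟩ := (QuotientGroup.eq_one_iff (g : G)).1 h1
      have : w = g := Subtype.ext hw'
      rwa [this] at hw
    · intro h
      apply Subtype.ext
      change ((g : G) : G ⧸ O) = 1
      exact (QuotientGroup.eq_one_iff (g : G)).2 ⟨g, h, rfl⟩
  let e1 : G0 ⧸ O0 ≃* M := (QuotientGroup.quotientMulEquivOfEq hfk.symm).trans
    (QuotientGroup.quotientKerEquivOfSurjective f hf)
  have hcen0 : center (G0 ⧸ O0) = ⊥ := by
    apply core_center (quo_ns hG0s hOodd0) ?_ hcore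
    intro N hN hNo
    have h1 : N ≤ Cfsg.pPrimeCore 2 (G0 ⧸ O0) := le_sSup ⟨hN, Nat.coprime_two_right.2 hNo⟩
    have h2 : Cfsg.pPrimeCore 2 (G0 ⧸ O0) = ⊥ := Cfsg.Agent.Solv.pPrimeCore_quotient_pPrimeCore 2
    exact le_bot_iff.1 (h1.trans h2.le)
  have hcenM : ∀ z ∈ M, (∀ m ∈ M, z * m = m * z) → z = 1 := by
    intro z hz hzm
    have h1 : e1.symm ⟨z, hz⟩ ∈ center (G0 ⧸ O0) := by
      rw [mem_center_iff]
      intro g
      apply e1.injective
      rw [map_mul, map_mul, MulEquiv.apply_symm_apply]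
      exact Subtype.ext (hzm (e1 g) (e1 g).2).symm
    rw [hcen0, Subgroup.mem_bot] at h1
    have h2 : (⟨z, hz⟩ : M) = 1 := by
      have := congrArg e1 h1
      rwa [MulEquiv.apply_symm_apply, map_one] at this
    exact congrArg Subtype.val h2
  haveI hMn : M.Normal := normal_of_index_eq_two hMi
  have hcent : centralizer (M : Set (G ⧸ O)) = ⊥ := by
    rw [eq_bot_iff]
    intro z hz
    rw [Subgroup.mem_bot]
    by_contra hz1
    have hzm : ∀ m ∈ M, z * m = m * z := fun m hm => (mem_centralizer_iff.1 hz m hm).symm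
    have hzM : z ∉ M := fun h => hz1 (hcenM z h hzm)
    have hprod : ∀ w w' : G ⧸ O, w ∉ M → w' ∉ M → w * w' ∈ M := by
      intro w w' hw hw'
      rw [Subgroup.mul_mem_iff_of_index_two hMi]
      exact iff_of_false hw hw'
    have hzz : z * z = 1 := hcenM _ (hprod z z hzM hzM) (by
      intro m hm
      rw [mul_assoc, hzm m hm, ← mul_assoc, hzm m hm, mul_assoc])
    have hzc : ∀ g : G ⧸ O, g * z * g⁻¹ = z := by
      intro g
      have h1 : g * z * g⁻¹ ∉ M := by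
        intro h
        apply hzM
        have := hMn.conj_mem _ h g⁻¹
        have e : g⁻¹ * (g * z * g⁻¹) * g⁻¹⁻¹ = z := by group
        rwa [e] at this
      have h2 : ∀ m ∈ M, (g * z * g⁻¹) * m = m * (g * z * g⁻¹) := by
        intro m hm
        have h3 : g⁻¹ * m * g ∈ M := by
          have := hMn.conj_mem m hm g⁻¹
          rwa [inv_inv] at this
        have h4 := hzm _ h3
        calc (g * z * g⁻¹) * m = g * (z * (g⁻¹ * m * g)) * g⁻¹ := by group
          _ = g * ((g⁻¹ * m * g) * z) * g⁻¹ := by rw [h4]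
          _ = m * (g * z * g⁻¹) := by group
      have h5 : (g * z * g⁻¹) * z = 1 := hcenM _ (hprod _ _ h1 hzM) (by
        intro m hm
        rw [mul_assoc, hzm m hm, ← mul_assoc, h2 m hm, mul_assoc])
      have h6 := eq_inv_of_mul_eq_one_left h5
      rw [h6]
      exact inv_eq_of_mul_eq_one_left hzz
    obtain ⟨t, t1, tt, htz⟩ := lift_inv hOodd hz1 hzz
    obtain ⟨g, hg⟩ := H4.exists_conj_mem_sylow S (x := t) (k := 1) (by rw [pow_one, pow_two]; exact tt)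
    set t' := g * t * g⁻¹ with ht'
    have ht'z : (t' : G ⧸ O) = z := by
      rw [ht', QuotientGroup.mk_mul, QuotientGroup.mk_mul, htz, QuotientGroup.mk_inv]
      exact hzc _
    have ht'G : t' ∉ G0 := by
      intro h; apply hzM; rw [← ht'z]; exact ⟨t', h, rfl⟩
    apply ht'G
    apply hSc t' hg
    intro s hs
    -- `t'` commutes with `s`
    have hcomm : t' * s * t'⁻¹ * s⁻¹ = 1 := by
      have h1 : t' * s * t'⁻¹ * s⁻¹ ∈ (S : Subgroup G) :=
        mul_mem (mul_mem (mul_mem hg hs) (inv_mem hg)) (inv_mem hs)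
      have h2 : t' * s * t'⁻¹ * s⁻¹ ∈ O := by
        rw [← QuotientGroup.eq_one_iff]
        rw [QuotientGroup.mk_mul, QuotientGroup.mk_mul, QuotientGroup.mk_mul, QuotientGroup.mk_inv,
          QuotientGroup.mk_inv, ht'z]
        have h3 := hzc (s : G ⧸ O)
        rw [mul_inv_eq_iff_eq_mul] at h3
        rw [← h3, mul_inv_cancel_right, mul_inv_cancel]
      have h3 := odd_of_mem hOodd h2
      obtain ⟨k, hk⟩ := S.isPGroup' ⟨_, h1⟩
      have hk' : (t' * s * t'⁻¹ * s⁻¹) ^ 2 ^ k = 1 := congrArg Subtype.val hk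
      have h4 := orderOf_dvd_of_pow_eq_one hk'
      obtain ⟨m, -, hm⟩ := (Nat.dvd_prime_pow Nat.prime_two).1 h4
      rw [hm] at h3
      rcases Nat.eq_zero_or_pos m with h5 | h5
      · rw [h5, pow_zero] at hm; exact orderOf_eq_one_iff.1 hm
      · exact absurd h3 (by rw [Nat.not_odd_iff_even]; exact Nat.even_pow.2 ⟨even_two, h5.ne'⟩)
    have h1 := mul_inv_eq_one.1 hcomm
    rwa [mul_inv_eq_iff_eq_mul] at h1
  have HQ := H.quo hOodd
  refine ⟨O, hOn, hOodd, F, iF, jF, h3, Or.inr ?_⟩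
  refine pgl_of_index_two M hMi h3 hFodd (e1.symm.trans e0) hcent HQ.hab HQ.t1 HQ.tt ?_ HQ.xx ?_ HQ.ct
  · intro w hw w1 ww
    exact (HQ.uniq w hw ww).resolve_left w1
  · intro a ha
    have h1 := HQ.inv a ha
    rwa [HQ.x_inv] at h1

end

end Cfsg.Agent.GWP
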