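import Cfsg.Agent.GWP.LPrime
import Cfsg.Agent.H40.EvenR
import Cfsg.Agent.BS.Base
import Cfsg.Agent.JY.U1
import Cfsg.Agent.H4.Final
import Cfsg.Agent.GWP.TInv

set_option autoImplicit false
set_option linter.unusedSectionVars false

/-! `W ≤ O(Q)`: the odd part of the centre of the involution centralisers. -/

namespace Cfsg.Agent.GWP
open Subgroup
open scoped Pointwise
universe u

/-- a Sylow 2-subgroup with a self-centralising four-subgroup -/
def FourS (L : Type*) [Group L] : Prop :=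
  ∃ (P : Sylow 2 L) (z u : L), z ∈ (P : Subgroup L) ∧ u ∈ (P : Subgroup L) ∧
    (∀ p ∈ (P : Subgroup L), p * z = z * p) ∧
    (∀ g ∈ (P : Subgroup L), g * u = u * g → g = 1 ∨ g = z ∨ g = u ∨ g = z * u)

theorem FourS.congr {L L' : Type*} [Group L] [Group L'] [Finite L] (e : L ≃* L') (h : FourS L) : FourS L' := by
  haveI : Fact (Nat.Prime 2) := ⟨Nat.prime_two⟩
  obtain ⟨P, z, u, hz, hu, hzP, h4⟩ := h
  have hs : Function.Surjective e.toMonoidHom := e.surjective
  let P' : Sylow 2 L' := P.mapSurjective hs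
  have hP' : (P' : Subgroup L') = (P : Subgroup L).map e.toMonoidHom := Sylow.coe_mapSurjective _ _
  refine ⟨P', e z, e u, ?_, ?_, ?_, ?_⟩
  · rw [hP']; exact ⟨z, hz, rfl⟩
  · rw [hP']; exact ⟨u, hu, rfl⟩
  · rw [hP']
    rintro _ ⟨p, hp, rfl⟩
    change e p * e z = e z * e p
    rw [← map_mul, hzP p hp, map_mul]
  · rw [hP']
    rintro _ ⟨g, hg, rfl⟩ hc
    change e g * e u = e u * e g at hc
    rw [← map_mul, ← map_mul] at hc
    change e g = 1 ∨ e g = e z ∨ e g = e u ∨ e g = e z * e u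
    rcases h4 g hg (e.injective hc) with h | h | h | h
    · left; rw [h, map_one]
    · right; left; rw [h]
    · right; right; left; rw [h]
    · right; right; right; rw [h, map_mul]

theorem FourS.card {L : Type*} [Group L] [Finite L] (h : FourS L) :
    ∃ P : Sylow 2 L, Nat.card (center (P : Subgroup L)) ≤ 2 ∨ center (P : Subgroup L) = ⊤ := by
  classical
  obtain ⟨P, z, u, hz, hu, hzP, h4⟩ := h
  refine ⟨P, ?_⟩
  by_cases huc : ∀ p ∈ (P : Subgroup L), p * u = u * p
  · right
    rw [eq_top_iff]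
    intro x _
    rw [mem_center_iff]
    intro y
    apply Subtype.ext
    change (y : L) * x = x * y
    rcases h4 x x.2 (huc x x.2) with h | h | h | h
    · rw [h, one_mul, mul_one]
    · rw [h]; exact hzP y y.2
    · rw [h]; exact huc y y.2
    · rw [h, ← mul_assoc, hzP y y.2, mul_assoc, huc y y.2, mul_assoc]
  · left
    have h5 : ∀ c : center (P : Subgroup L), (((c : center (P : Subgroup L)) : (P : Subgroup L)) : L) = 1 ∨
        (((c : center (P : Subgroup L)) : (P : Subgroup L)) : L) = z := by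
      intro c
      have hcc : ∀ p ∈ (P : Subgroup L), p * ((c : (P : Subgroup L)) : L) = ((c : (P : Subgroup L)) : L) * p :=
        fun p hp => congrArg Subtype.val (mem_center_iff.1 c.2 ⟨p, hp⟩)
      rcases h4 _ (c : (P : Subgroup L)).2 (hcc u hu).symm with h | h | h | h
      · exact Or.inl h
      · exact Or.inr h
      · exfalso; apply huc; intro p hp; rw [← h]; exact hcc p hp
      · exfalso; apply huc; intro p hp
        have h6 := hcc p hp
        rw [h] at h6
        have h7 : z * (p * u) = z * (u * p) := by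
          calc z * (p * u) = (z * p) * u := by rw [mul_assoc]
            _ = (p * z) * u := by rw [hzP p hp]
            _ = p * (z * u) := by rw [mul_assoc]
            _ = z * u * p := h6
            _ = z * (u * p) := by rw [mul_assoc]
        exact mul_left_cancel h7
    have h6 : Function.Injective (fun c : center (P : Subgroup L) =>
        if (((c : center (P : Subgroup L)) : (P : Subgroup L)) : L) = 1 then (0 : Fin 2) else 1) := by
      intro b b' hbb
      apply Subtype.ext
      apply Subtype.ext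
      by_cases h1 : (((b : center (P : Subgroup L)) : (P : Subgroup L)) : L) = 1
      · by_cases h2 : (((b' : center (P : Subgroup L)) : (P : Subgroup L)) : L) = 1
        · rw [h1, h2]
        · simp only [h1, if_true, h2, if_false] at hbb
          exact absurd hbb (by decide)
      · by_cases h2 : (((b' : center (P : Subgroup L)) : (P : Subgroup L)) : L) = 1
        · simp only [h1, if_false, h2, if_true] at hbb
          exact absurd hbb (by decide)
        · rw [(h5 b).resolve_left h1, (h5 b').resolve_left h2]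
    have h7 := Nat.card_le_card_of_injective _ h6
    simpa using h7

/-- the list of Bender for groups with a self-centralising four-subgroup of a Sylow 2-subgroup -/
theorem psl_of_fourS {L : Type*} [Group L] [Finite L] (h : FourS L) (hl : BS.InList L) :
    ∃ (F : Type) (_ : Field F) (_ : Fintype F) (n : ℕ), 2 ≤ n ∧ Fintype.card F = 2 ^ n ∧
      Nonempty (L ≃* Matrix.ProjectiveSpecialLinearGroup (Fin 2) F) := by
  have := Fact.mk Nat.prime_two
  rcases hl with hl | ⟨F, i1, i2, m, hm, hc, ⟨f⟩⟩ | ⟨F, i1, i2, n, hn, hc, ⟨f⟩⟩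
  · exact hl
  · exfalso
    obtain ⟨e⟩ := Suz.nonempty_lieEquiv hm hc
    have : Finite (Cfsg.Sz F m) := Finite.of_equiv L (e.trans f.symm).symm.toEquiv
    obtain ⟨P, h1⟩ := (h.congr (e.trans f.symm).symm).card
    obtain ⟨h2, -, -, h3⟩ := S0330.result hm hc P
    have h4 : 2 ^ 3 ≤ 2 ^ (2 * m + 1) := Nat.pow_le_pow_right (by norm_num) (by omega)
    rcases h1 with h1 | h1
    · rw [h3] at h1; omega
    · rw [h1, Subgroup.card_top, h2] at h3
      nlinarith
  · exfalso
    have : Finite (Cfsg.PSU 3 F (2 ^ n)) := Finite.of_equiv L f.toEquiv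
    obtain ⟨P, h1⟩ := (h.congr f).card
    obtain ⟨h2, h3, -⟩ := S1141.result hn hc P
    have h4 : 2 ^ 2 ≤ 2 ^ n := Nat.pow_le_pow_right (by norm_num) hn
    rcases h1 with h1 | h1
    · rw [h3] at h1; omega
    · rw [h1, Subgroup.card_top, h2] at h3
      have h5 : (2 ^ n) ^ 1 < (2 ^ n) ^ 3 := Nat.pow_lt_pow_right (by omega) (by norm_num)
      rw [h3, pow_one] at h5
      exact lt_irrefl _ h5

theorem w_le_core {Q : Type u} [Group Q] [Finite Q] {z u : Q} (z1 : z ≠ 1) (zz : z * z = 1) (u1 : u ≠ 1)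
    (uu : u * u = 1) (uz : u ≠ z) (P : Sylow 2 Q) (hzP : ∀ p ∈ (P : Subgroup Q), p * z = z * p)
    (hz : z ∈ (P : Subgroup Q)) (hu : u ∈ (P : Subgroup Q))
    (hfour : ∀ g ∈ (P : Subgroup Q), g * u = u * g → g = 1 ∨ g = z ∨ g = u ∨ g = z * u)
    (hconj : ∀ t : Q, t ≠ 1 → t * t = 1 → ∃ g : Q, g * t * g⁻¹ = z) {W : Subgroup Q} (hWo : Odd (Nat.card W))
    (hWc : ∀ w ∈ W, ∀ g : Q, g * z = z * g → g * w = w * g)
    (hW3 : ∀ t : Q, t ≠ 1 → t * t = 1 → t ≠ z → t * z = z * t → ∀ g : Q, g * z = z * g → g * t = t * g →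
      Odd (orderOf g) → g ∈ W) : W ≤ Cfsg.pPrimeCore 2 Q := by
  classical
  haveI : Fact (Nat.Prime 2) := ⟨Nat.prime_two⟩
  have hodd : ∀ w ∈ W, Odd (orderOf w) := fun w hw =>
    hWo.of_dvd_nat (by rw [← Subgroup.orderOf_mk w hw]; exact orderOf_dvd_natCard _)
  -- conjugation by `c` with `c z c⁻¹ ∈ C(z)` preserves `W`
  have hc : ∀ c : Q, (c * z * c⁻¹) * z = z * (c * z * c⁻¹) → c ∈ normalizer (W : Set Q) := by
    intro c hcz
    by_cases h1 : c * z * c⁻¹ = z
    · have h2 : c * z = z * c := mul_inv_eq_iff_eq_mul.1 h1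
      rw [mem_normalizer_iff]
      intro w
      constructor
      · intro hw
        rw [hWc w hw c h2, mul_inv_cancel_right]; exact hw
      · intro hw
        have h3 := hWc _ hw c⁻¹ (by
          calc c⁻¹ * z = c⁻¹ * (z * c) * c⁻¹ := by group
            _ = c⁻¹ * (c * z) * c⁻¹ := by rw [h2]
            _ = z * c⁻¹ := by group)
        have h4 : w = c⁻¹ * (c * w * c⁻¹) * c := by group
        rw [h4, h3, inv_mul_cancel_right]; exact hw
    · rw [← inv_mem_iff]
      apply TI.T_norm_of_le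
      intro w hw
      rw [inv_inv]
      have hwz : z * w = w * z := hWc w hw z rfl
      have hwt : (c * z * c⁻¹) * w = w * (c * z * c⁻¹) := hWc w hw _ hcz
      apply hW3 (c⁻¹ * z * c)
      · intro h; apply z1
        calc z = c * (c⁻¹ * z * c) * c⁻¹ := by group
          _ = 1 := by rw [h]; group
      · calc c⁻¹ * z * c * (c⁻¹ * z * c) = c⁻¹ * (z * z) * c := by group
          _ = 1 := by rw [zz]; group
      · intro h; apply h1
        calc c * z * c⁻¹ = c * (c⁻¹ * z * c) * c⁻¹ := by rw [h]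
          _ = z := by group
      · calc c⁻¹ * z * c * z = c⁻¹ * (z * (c * z * c⁻¹)) * c := by group
          _ = c⁻¹ * ((c * z * c⁻¹) * z) * c := by rw [hcz]
          _ = z * (c⁻¹ * z * c) := by group
      · calc c⁻¹ * w * c * z = c⁻¹ * (w * (c * z * c⁻¹)) * c := by group
          _ = c⁻¹ * ((c * z * c⁻¹) * w) * c := by rw [hwt]
          _ = z * (c⁻¹ * w * c) := by group
      · calc c⁻¹ * w * c * (c⁻¹ * z * c) = c⁻¹ * (w * z) * c := by group
          _ = c⁻¹ * (z * w) * c := by rw [hwz]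
          _ = c⁻¹ * z * c * (c⁻¹ * w * c) := by group
      · have h3 : orderOf (c⁻¹ * w * c) = orderOf w := by
          have := H4.orderOf_conj' c⁻¹ w
          rwa [inv_inv] at this
        rw [h3]; exact hodd w hw
  set M := normalizer (W : Set Q) with hM
  have hCz : ∀ h : Q, h * z = z * h → h ∈ M := fun h hh => hc h (by
    rw [hh, mul_inv_cancel_right])
  have hN : normalizer ((P : Subgroup Q) : Set Q) ≤ M := by
    intro n hn
    exact hc n (hzP _ ((mem_normalizer_iff.1 hn z).1 hz))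
  have hC : ∀ t ∈ (P : Subgroup Q), orderOf t = 2 → centralizer ({t} : Set Q) ≤ M := by
    intro t ht ht2 h hh
    have t1 : t ≠ 1 := by rintro rfl; rw [orderOf_one] at ht2; omega
    obtain ⟨g, hg⟩ := hconj t t1 (H4.mul_self_of_orderOf_two ht2)
    have hgt : g⁻¹ * z * g = t := by rw [← hg]; group
    have h1 : g⁻¹ ∈ M := by
      apply hc
      rw [inv_inv, hgt]; exact hzP t ht
    have h2 : g * h * g⁻¹ ∈ M := by
      apply hCz
      rw [mem_centralizer_singleton_iff] at hh
      calc g * h * g⁻¹ * z = g * (h * (g⁻¹ * z * g)) * g⁻¹ := by group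
        _ = g * (h * t) * g⁻¹ := by rw [hgt]
        _ = g * (t * h) * g⁻¹ := by rw [hh]
        _ = (g * t * g⁻¹) * (g * h * g⁻¹) := by group
        _ = z * (g * h * g⁻¹) := by rw [hg]
    have h3 : h = g⁻¹ * (g * h * g⁻¹) * g := by group
    rw [h3]
    exact mul_mem (mul_mem h1 h2) ((inv_mem_iff (H := M)).1 h1)
  have hP1 : (P : Subgroup Q) ≠ ⊥ := by
    intro h; rw [h, mem_bot] at hz; exact z1 hz
  rcases JY.U.se_or_top P hN hC hP1 with h | hse
  · have hWn : W.Normal := normalizer_eq_top_iff.1 h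
    exact Solv.le_pPrimeCore (p := 2) hWn (Nat.coprime_two_right.2 hWo)
  by_cases hO : Cfsg.pPrimeCore 2 Q ≤ M
  swap
  · exfalso
    obtain ⟨-, h2⟩ := BS.rankOne_of hse hO z (orderOf_eq_prime (by rw [pow_two]; exact zz) z1)
    exact uz (h2 u (mem_centralizer_singleton_iff.2 (hzP u hu))
      (orderOf_eq_prime (by rw [pow_two]; exact uu) u1))
  obtain ⟨L, hLn, -, -, hLc, hi, hl, -, -⟩ := BS.struct hse hO
  set O := Cfsg.pPrimeCore 2 Q with hOdef
  have hOodd : Odd (Nat.card O) := H4.odd_card_pPrimeCore_two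
  set π := QuotientGroup.mk' O with hπ
  have hπs : Function.Surjective π := QuotientGroup.mk'_surjective O
  let P' : Sylow 2 (Q ⧸ O) := P.mapSurjective hπs
  have hP' : (P' : Subgroup (Q ⧸ O)) = (P : Subgroup Q).map π := Sylow.coe_mapSurjective _ _
  have hP'L : (P' : Subgroup (Q ⧸ O)) ≤ L := by
    intro x hx
    obtain ⟨k, hk⟩ := P'.isPGroup' ⟨x, hx⟩
    exact H40.EvenL.mem_of_two_elt hi (congrArg Subtype.val hk)
  let PL : Sylow 2 L := P'.subtype hP'L
  have hPL : ∀ x : L, x ∈ (PL : Subgroup L) ↔ (x : Q ⧸ O) ∈ (P' : Subgroup (Q ⧸ O)) := by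
    intro x
    rw [Sylow.coe_subtype, mem_subgroupOf]
  have hmem : ∀ p ∈ (P : Subgroup Q), π p ∈ (P' : Subgroup (Q ⧸ O)) := fun p hp => by
    rw [hP']; exact ⟨p, hp, rfl⟩
  have hL4 : FourS L := by
    refine ⟨PL, ⟨π z, hP'L (hmem z hz)⟩, ⟨π u, hP'L (hmem u hu)⟩, (hPL _).2 (hmem z hz), (hPL _).2 (hmem u hu),
      ?_, ?_⟩
    · rintro ⟨x, hx⟩ hx'
      have h1 := (hPL _).1 hx'
      rw [hP'] at h1
      obtain ⟨p, hp, hpx⟩ := h1
      have hpx : π p = x := hpx
      apply Subtype.ext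
      change x * π z = π z * x
      rw [← hpx, ← map_mul, hzP p hp, map_mul]
    · rintro ⟨x, hx⟩ hx' hxu
      have h1 := (hPL _).1 hx'
      rw [hP'] at h1
      obtain ⟨p, hp, hpx⟩ := h1
      have hpx : π p = x := hpx
      have h2 : x * π u = π u * x := congrArg Subtype.val hxu
      have h3 : p * u = u * p := by
        have h4 : (u * p)⁻¹ * (p * u) ∈ O := by
          rw [← QuotientGroup.eq_one_iff]
          change π ((u * p)⁻¹ * (p * u)) = 1
          rw [map_mul, map_inv, map_mul, map_mul, hpx, h2, inv_mul_cancel]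
        have h5 : (u * p)⁻¹ * (p * u) ∈ (P : Subgroup Q) := mul_mem (inv_mem (mul_mem hu hp)) (mul_mem hp hu)
        have h6 : Odd (orderOf ((u * p)⁻¹ * (p * u))) :=
          hOodd.of_dvd_nat (by rw [← Subgroup.orderOf_mk _ h4]; exact orderOf_dvd_natCard _)
        obtain ⟨k, hk⟩ := P.isPGroup' ⟨_, h5⟩
        have h7 : ((u * p)⁻¹ * (p * u)) ^ 2 ^ k = 1 := congrArg Subtype.val hk
        have h8 : orderOf ((u * p)⁻¹ * (p * u)) = 1 := by
          have h9 := orderOf_dvd_of_pow_eq_one h7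
          exact Nat.Coprime.eq_one_of_dvd (Nat.Coprime.pow_right k (Nat.coprime_two_right.2 h6)) h9
        rw [orderOf_eq_one_iff, inv_mul_eq_one] at h8
        exact h8.symm
      rcases hfour p hp h3 with h | h | h | h
      · left; apply Subtype.ext; change x = 1; rw [← hpx, h, map_one]
      · right; left; apply Subtype.ext; change x = π z; rw [← hpx, h]
      · right; right; left; apply Subtype.ext; change x = π u; rw [← hpx, h]
      · right; right; right; apply Subtype.ext; change x = π z * π u; rw [← hpx, h, map_mul]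
  obtain ⟨F, i1, i2, n, hn, hcF, ⟨f⟩⟩ := psl_of_fourS hL4 hl
  have hch : CharP F 2 := charP_of_card_eq_prime_pow hcF
  have hq4 : 4 ≤ Fintype.card F := by
    rw [hcF]
    calc 4 = 2 ^ 2 := by norm_num
      _ ≤ 2 ^ n := Nat.pow_le_pow_right (by norm_num) hn
  intro w hw
  have hwP : ∀ p ∈ (PL : Subgroup L), π w * (p : Q ⧸ O) = (p : Q ⧸ O) * π w := by
    intro p hp
    have h1 := (hPL p).1 hp
    rw [hP'] at h1
    obtain ⟨p₀, hp₀, hpx⟩ := h1
    have hpx : π p₀ = (p : Q ⧸ O) := hpx
    rw [← hpx, ← map_mul, ← map_mul, hWc w hw p₀ (hzP p₀ hp₀)]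
  obtain ⟨s, hs, hsL⟩ := lprime hq4 f PL hwP
  have h1 : π w * (s : Q ⧸ O)⁻¹ ∈ centralizer (L : Set (Q ⧸ O)) := by
    rw [mem_centralizer_iff]
    intro m hm
    exact (hsL m hm).symm
  rw [hLc, mem_bot, mul_inv_eq_one] at h1
  have h2 : Odd (orderOf (π w)) := (hodd w hw).of_dvd_nat (orderOf_map_dvd π w)
  obtain ⟨k, hk⟩ := PL.isPGroup' ⟨s, hs⟩
  have h3 : (π w) ^ 2 ^ k = 1 := by
    rw [h1]
    exact congrArg (fun y : (PL : Subgroup L) => ((y : L) : Q ⧸ O)) hk
  have h4 : orderOf (π w) = 1 :=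
    Nat.Coprime.eq_one_of_dvd (Nat.Coprime.pow_right k (Nat.coprime_two_right.2 h2)) (orderOf_dvd_of_pow_eq_one h3)
  rw [orderOf_eq_one_iff] at h4
  exact (QuotientGroup.eq_one_iff w).1 h4

end Cfsg.Agent.GWP
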