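import Cfsg.Agent.GWP.MData
import Cfsg.Agent.GWP.WCore
import Cfsg.Agent.GWP.MQuo
import Cfsg.Agent.Transfer.NPC
import Cfsg.Agent.FT.Base

set_option autoImplicit false
set_option linter.unusedSectionVars false
set_option linter.style.haveILetI false

/-! S3322: the case of dihedral Sylow 2-subgroups not contained in a conjugate of `C(j)` (helper22) -/

namespace Cfsg.Agent.GWP

open Subgroup Cfsg.Agent.DihSyl

universe u
variable {G : Type u} [Group G] [Finite G]

/-- S3322 (M): `C(j)` does not contain a Sylow 2-subgroup and the Sylow 2-subgroups are dihedral. -/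
theorem asMd (hns : ¬ Group.IsSolvable G) {A : Subgroup G} {j x : G} (H : Cen A j x) (T : Sylow 2 G) {r s : G} {m : ℕ}
    (hT : DihSyl.DihData (T : Subgroup G) r s m)
    (hS : ∀ S : Sylow 2 G, ¬ (S : Subgroup G) ≤ Subgroup.centralizer ({j} : Set G)) :
    ∃ (N : Subgroup G) (_ : N.Normal), Odd (Nat.card ↥N) ∧
      ∃ (F : Type) (_ : Field F) (_ : Fintype F), 3 < Fintype.card F ∧
        (Nonempty (G ⧸ N ≃* Matrix.ProjectiveSpecialLinearGroup (Fin 2) F) ∨
          Nonempty (G ⧸ N ≃* Matrix.ProjGenLinGroup (Fin 2) F)) := by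
  haveI : Fact (Nat.Prime 2) := ⟨Nat.prime_two⟩
  have hn : ¬ Cfsg.HasNormalPComplement 2 G := by
    rintro ⟨P, N, hN, hc⟩
    apply hns
    haveI := hN
    obtain ⟨h1, k, h2⟩ := Transfer.card_index_of_isComplement' hc
    have h3 : Group.IsSolvable N := FT.solvable_of_odd (Nat.coprime_two_right.1 h1)
    have h4 : Group.IsSolvable (G ⧸ N) := by
      have h5 : IsPGroup 2 (G ⧸ N) := by
        rw [IsPGroup.iff_card]
        exact ⟨k, by rw [← Subgroup.index_eq_card, h2]⟩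
      haveI := h5.isNilpotent
      infer_instance
    exact solv_of_quot h3 h4
  obtain ⟨z, r, T, m, G0, S2⟩ := MD.exists_set2 H T hT hS hn
  obtain ⟨K, S⟩ := S2.exists_KF
  haveI := S.normal
  -- the data in `G0`
  let T0 : Sylow 2 G0 := Transfer.sylowInf T G0
  have hT0 : ∀ t : G0, t ∈ (T0 : Subgroup G0) ↔ (t : G) ∈ (T : Subgroup G) := by
    intro t
    rw [Transfer.sylowInf_coe, mem_subgroupOf]
  let r0 : G0 := ⟨r * r, S.r2G⟩
  let u0 : G0 := ⟨r * j, S.uG⟩
  let z0 : G0 := ⟨z, S.zG⟩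
  have hzp : ∀ c : G0, (c : G) ∈ zpowers (r * r) → c ∈ zpowers r0 := by
    rintro c ⟨n, hn⟩
    refine ⟨n, ?_⟩
    apply Subtype.ext
    exact hn
  have hzp' : ∀ c : G0, c ∈ zpowers r0 → (c : G) ∈ zpowers (r * r) := by
    rintro c ⟨n, hn⟩
    exact ⟨n, congrArg Subtype.val hn⟩
  have hr1 : r0 ≠ 1 := fun h => S.rr (congrArg Subtype.val h)
  have D0 : DihData (T0 : Subgroup G0) r0 u0 (orderOf r0) :=
    { r_mem := (hT0 _).2 (mul_mem S.rT S.rT)
      s_mem := (hT0 _).2 S.u_mem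
      orderOf_r := rfl
      s_sq := Subtype.ext S.uu
      conj := Subtype.ext (S.D.conj_C S.u_mem S.u_not (mul_mem (mem_zpowers r) (mem_zpowers r)))
      s_notMem := fun h => S.u_not (S.rr_le (hzp' _ h))
      cases := by
        intro x hx
        rcases S.T0 ((hT0 x).1 hx) x.2 with h | h
        · exact Or.inl (hzp _ h)
        · exact Or.inr (hzp _ h)
      two_group := T0.isPGroup'
      two_le := by
        have h1 : orderOf r0 ≠ 1 := fun h => hr1 (orderOf_eq_one_iff.1 h)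
        have h2 := orderOf_pos r0
        omega }
  have hz0 : z0 ∈ zpowers r0 := hzp _ S.z_mem_rr
  have z01 : z0 ≠ 1 := fun h => S.z1 (congrArg Subtype.val h)
  have zz0 : z0 * z0 = 1 := Subtype.ext S.zz
  have cz : ∀ g : G0, g * z0 = z0 * g ↔ (g : G) * z = z * g := by
    intro g
    exact ⟨fun h => congrArg Subtype.val h, fun h => Subtype.ext h⟩
  have cu : ∀ g : G0, g * u0 = u0 * g ↔ (g : G) * (r * j) = r * j * g := by
    intro g
    exact ⟨fun h => congrArg Subtype.val h, fun h => Subtype.ext h⟩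
  have hconj : ∀ t : G0, t ≠ 1 → t * t = 1 → ∃ g : G0, g * t * g⁻¹ = z0 := by
    intro t t1 tt
    obtain ⟨g, hg, hgt⟩ := S.conj_z t.2 (fun h => t1 (Subtype.ext h)) (congrArg Subtype.val tt)
    exact ⟨⟨g, hg⟩, Subtype.ext hgt⟩
  let K0 : Subgroup G0 := K.subgroupOf G0
  have hK0 : ∀ k : G0, k ∈ K0 ↔ (k : G) ∈ K := fun k => mem_subgroupOf
  have hKo : Odd (Nat.card K0) := by
    rw [Nat.card_congr (Subgroup.subgroupOfEquivOfLe S.K_le).toEquiv]
    exact S.Ko
  have hC : ∀ g : G0, g * z0 = z0 * g → ∃ k ∈ K0, ∃ t ∈ (T0 : Subgroup G0), g = k * t := by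
    intro g hg
    obtain ⟨k, hk, t, ht, htG, h⟩ := S.fact g.2 ((cz g).1 hg)
    exact ⟨⟨k, S.K_le hk⟩, (hK0 _).2 hk, ⟨t, htG⟩, (hT0 _).2 ht, Subtype.ext h⟩
  -- `W = C_K(u)` lies in the core
  let W : Subgroup G0 := K0 ⊓ centralizer ({u0} : Set G0)
  have hWo : Odd (Nat.card W) := Odd.of_dvd_nat hKo (Subgroup.card_dvd_of_le inf_le_left)
  have hWcore : W ≤ Cfsg.pPrimeCore 2 G0 := by
    refine w_le_core (z := z0) (u := u0) z01 zz0 (fun h => S.u1 (congrArg Subtype.val h)) (Subtype.ext S.uu)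
      (fun h => S.uz (congrArg Subtype.val h)) T0 ?_ ((hT0 _).2 S.zT) ((hT0 _).2 S.u_mem) ?_ hconj hWo ?_ ?_
    · intro p hp
      exact (cz p).2 (S.hzc p ((hT0 p).1 hp))
    · intro g hg hgu
      rcases S.four ((hT0 g).1 hg) ((cu g).1 hgu) with h | h | h | h
      · exact Or.inl (Subtype.ext h)
      · exact Or.inr (Or.inl (Subtype.ext h))
      · exact Or.inr (Or.inr (Or.inl (Subtype.ext h)))
      · exact Or.inr (Or.inr (Or.inr (Subtype.ext h)))
    · intro w hw g hg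
      have h1 := (hK0 w).1 hw.1
      have h2 := (cu w).1 (mem_centralizer_singleton_iff.1 hw.2)
      exact Subtype.ext (S.Wc h1 h2 g.2 ((cz g).1 hg))
    · intro t t1 tt tz htz g hgz hgt ho
      have ho' : Odd (orderOf (g : G)) := by rwa [Subgroup.orderOf_coe]
      obtain ⟨h1, h2⟩ := S.W3 t.2 (fun h => t1 (Subtype.ext h)) (congrArg Subtype.val tt)
        (fun h => tz (Subtype.ext h)) ((cz t).1 htz) ((cz g).1 hgz) (congrArg Subtype.val hgt) ho'
      exact ⟨(hK0 g).2 h1, mem_centralizer_singleton_iff.2 ((cu g).2 h2)⟩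
  refine m3 hns S.H T S.index (fun t ht h => S.center_le ht h) D0 hz0 z01 zz0 hKo ?_ ?_ ?_ hC ?_ hconj
  · intro a ha b hb
    exact Subtype.ext (S.K_comm ((hK0 a).1 ha) ((hK0 b).1 hb))
  · intro k hk
    exact (hK0 _).2 (S.Kn (r * j) (S.hzc _ S.u_mem) k ((hK0 k).1 hk))
  · intro k hk
    exact Subtype.ext (S.Kr ((hK0 k).1 hk))
  · intro k hk hku
    exact hWcore ⟨hk, mem_centralizer_singleton_iff.2 hku⟩

end Cfsg.Agent.GWP
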