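import Cfsg.Agent.GWP.AsD
import Cfsg.Agent.GWP.AsM
import Cfsg.Agent.Solv.Core
import Cfsg.Agent.GWP.AsSD

set_option autoImplicit false

/-! S3322: the case of a unique involution in `A` (helper67) -/

namespace Cfsg.Agent.GWP

open Subgroup

universe u

/-- the odd core has odd order -/
theorem odd_core {G : Type*} [Group G] [Finite G] : Odd (Nat.card (Cfsg.pPrimeCore 2 G)) := by
  exact Nat.coprime_two_right.1 (Solv.pPrimeCore_card_coprime (G := G) 2)

/-- dihedral Sylow subgroups lift from the quotient by an odd normal subgroup -/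
theorem dih_lift {G : Type*} [Group G] [Finite G] {O : Subgroup G} [O.Normal] (hO : Odd (Nat.card O))
    (T' : Sylow 2 (G ⧸ O)) {r' s' : G ⧸ O} {m : ℕ} (h : DihSyl.DihData (T' : Subgroup (G ⧸ O)) r' s' m) :
    ∃ (T : Sylow 2 G) (r s : G), DihSyl.DihData (T : Subgroup G) r s m := by
  haveI : Fact (Nat.Prime 2) := ⟨Nat.prime_two⟩
  have hsurj := QuotientGroup.mk'_surjective O
  obtain ⟨T0⟩ : Nonempty (Sylow 2 G) := inferInstance
  obtain ⟨g', hg'⟩ := MulAction.exists_smul_eq (G ⧸ O) (T0.mapSurjective hsurj) T'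
  obtain ⟨g, rfl⟩ := hsurj g'
  have hmap : ((g • T0 : Sylow 2 G) : Subgroup G).map (QuotientGroup.mk' O) = (T' : Subgroup (G ⧸ O)) := by
    rw [← hg', Sylow.coe_subgroup_smul, Sylow.coe_subgroup_smul]
    ext y
    constructor
    · rintro ⟨x, hx, rfl⟩
      rw [SetLike.mem_coe, Subgroup.mem_pointwise_smul_iff_inv_smul_mem] at hx
      rw [Subgroup.mem_pointwise_smul_iff_inv_smul_mem]
      refine ⟨_, hx, ?_⟩
      simp [MulAut.smul_def]
    · intro hy
      rw [Subgroup.mem_pointwise_smul_iff_inv_smul_mem] at hy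
      obtain ⟨x, hx, hxy⟩ := hy
      refine ⟨g * x * g⁻¹, ?_, ?_⟩
      · rw [SetLike.mem_coe, Subgroup.mem_pointwise_smul_iff_inv_smul_mem]
        have h1 : (MulAut.conj g)⁻¹ • (g * x * g⁻¹) = x := by
          simp [MulAut.smul_def, mul_assoc]
        rw [h1]; exact hx
      · rw [map_mul, map_mul, map_inv, hxy]
        simp [MulAut.smul_def, mul_assoc]
  set T : Sylow 2 G := g • T0 with hT
  have hinj : ∀ t ∈ (T : Subgroup G), QuotientGroup.mk' O t = 1 → t = 1 := by
    intro t ht h1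
    have h2 : t ∈ O := (QuotientGroup.eq_one_iff t).1 h1
    obtain ⟨k, hk⟩ := IsPGroup.iff_orderOf.1 T.isPGroup' ⟨t, ht⟩
    rw [Subgroup.orderOf_mk] at hk
    have h3 := odd_of_mem hO h2
    rw [hk] at h3
    rcases k with _ | k
    · rw [pow_zero] at hk; exact orderOf_eq_one_iff.1 hk
    · exfalso
      rw [pow_succ, Nat.odd_mul] at h3
      exact absurd h3.2 (by decide)
  have hinj2 : ∀ s ∈ (T : Subgroup G), ∀ t ∈ (T : Subgroup G), QuotientGroup.mk' O s = QuotientGroup.mk' O t → s = t := by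
    intro s hs t ht h1
    have := hinj (s * t⁻¹) (mul_mem hs (inv_mem ht)) (by rw [map_mul, map_inv, h1, mul_inv_cancel])
    exact mul_inv_eq_one.1 this
  have hr := h.r_mem
  have hs := h.s_mem
  rw [← hmap] at hr hs
  obtain ⟨r, hr, hr'⟩ := hr
  obtain ⟨s, hs, hs'⟩ := hs
  have hz : ∀ t ∈ (T : Subgroup G), QuotientGroup.mk' O t ∈ zpowers r' → t ∈ zpowers r := by
    intro t ht h1
    rw [← hr', ← MonoidHom.map_zpowers] at h1
    obtain ⟨w, hw, hw'⟩ := h1
    have hrT : zpowers r ≤ (T : Subgroup G) := by rw [zpowers_le]; exact hr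
    have := hinj2 w (hrT hw) t ht hw'
    rw [← this]; exact hw
  refine ⟨T, r, s, ⟨hr, hs, ?_, ?_, ?_, ?_, ?_, T.isPGroup', h.two_le⟩⟩
  · rw [← h.orderOf_r, ← hr']
    apply Nat.dvd_antisymm
    · apply orderOf_dvd_of_pow_eq_one
      apply hinj _ (pow_mem hr _)
      rw [map_pow, pow_orderOf_eq_one]
    · exact orderOf_map_dvd _ _
  · apply hinj _ (mul_mem hs hs)
    rw [map_mul, hs']; exact h.s_sq
  · apply hinj2 _ (mul_mem (mul_mem hs hr) (inv_mem hs)) _ (inv_mem hr)
    rw [map_mul, map_mul, map_inv, map_inv, hs', hr']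
    exact h.conj
  · intro h1
    apply h.s_notMem
    rw [← hs', ← hr', ← MonoidHom.map_zpowers]
    exact mem_map_of_mem _ h1
  · intro t ht
    have h1 : QuotientGroup.mk' O t ∈ (T' : Subgroup (G ⧸ O)) := by
      rw [← hmap]; exact mem_map_of_mem _ ht
    rcases h.cases _ h1 with h2 | h2
    · exact Or.inl (hz t ht h2)
    · right
      apply hz _ (mul_mem hs ht)
      rw [map_mul, hs']; exact h2

/-- a quotient of a quotient -/
theorem quot_iso {G R : Type*} [Group G] [Group R] (f : G →* R) (hf : Function.Surjective f) (N' : Subgroup R)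
    [N'.Normal] {K : Type*} [Group K] (h : Nonempty (R ⧸ N' ≃* K)) : Nonempty (G ⧸ N'.comap f ≃* K) := by
  obtain ⟨e⟩ := h
  have hk : ((QuotientGroup.mk' N').comp f).ker = N'.comap f := by
    ext x
    rw [MonoidHom.mem_ker, mem_comap, MonoidHom.comp_apply]
    exact QuotientGroup.eq_one_iff (f x)
  have e1 : G ⧸ ((QuotientGroup.mk' N').comp f).ker ≃* R ⧸ N' :=
    QuotientGroup.quotientKerEquivOfSurjective _ ((QuotientGroup.mk'_surjective N').comp hf)
  exact ⟨((QuotientGroup.quotientMulEquivOfEq hk).symm.trans e1).trans e⟩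

theorem card_comap {G R : Type*} [Group G] [Group R] [Finite G] [Finite R] (f : G →* R)
    (hf : Function.Surjective f) (N' : Subgroup R) : Nat.card (N'.comap f) * Nat.card R = Nat.card N' * Nat.card G := by
  have h1 := (N'.comap f).card_mul_index
  have h2 := N'.card_mul_index
  rw [N'.index_comap_of_surjective hf] at h1
  calc Nat.card (N'.comap f) * Nat.card R = Nat.card (N'.comap f) * (Nat.card N' * N'.index) := by rw [h2]
    _ = Nat.card N' * (Nat.card (N'.comap f) * N'.index) := by ring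
    _ = Nat.card N' * Nat.card G := by rw [h1]

/-- **the case of a unique involution** -/
theorem asCen {G : Type u} [Group G] [Finite G] (hns : ¬ Group.IsSolvable G) {A : Subgroup G} {j x : G}
    (H : Cen A j x) :
    ∃ (N : Subgroup G) (_ : N.Normal), (Odd (Nat.card ↥N) ∨ ∃ m : ℕ, Odd m ∧ Nat.card ↥N = 2 * m) ∧
      ∃ (F : Type) (_ : Field F) (_ : Fintype F), 3 < Fintype.card F ∧
        (Nonempty (G ⧸ N ≃* Matrix.ProjectiveSpecialLinearGroup (Fin 2) F) ∨
          Nonempty (G ⧸ N ≃* Matrix.ProjGenLinGroup (Fin 2) F)) := by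
  -- the dihedral case
  have dihcase : ∀ {K : Type u} [Group K] [Finite K], ¬ Group.IsSolvable K → ∀ {A : Subgroup K} {j x : K},
      Cen A j x → ∀ (T : Sylow 2 K) {r s : K} {m : ℕ}, DihSyl.DihData (T : Subgroup K) r s m →
      ∃ (N : Subgroup K) (_ : N.Normal), Odd (Nat.card ↥N) ∧
      ∃ (F : Type) (_ : Field F) (_ : Fintype F), 3 < Fintype.card F ∧
        (Nonempty (K ⧸ N ≃* Matrix.ProjectiveSpecialLinearGroup (Fin 2) F) ∨
          Nonempty (K ⧸ N ≃* Matrix.ProjGenLinGroup (Fin 2) F)) := by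
    intro K _ _ hns A j x H T r s m hT
    by_cases hS : ∃ S : Sylow 2 K, (S : Subgroup K) ≤ Subgroup.centralizer ({j} : Set K)
    · obtain ⟨S, hS⟩ := hS
      exact asD hns H S hS
    · push Not at hS
      exact asMd hns H T hT hS
  by_cases hd : ∃ (T : Sylow 2 G) (r s : G) (m : ℕ), DihSyl.DihData (T : Subgroup G) r s m
  · obtain ⟨T, r, s, m, hT⟩ := hd
    obtain ⟨N, hN, ho, h⟩ := dihcase hns H T hT
    exact ⟨N, hN, Or.inl ho, h⟩
  · have hO : Odd (Nat.card (Cfsg.pPrimeCore 2 G)) := odd_core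
    have hQ := quo_ns hns hO
    obtain ⟨Z, hZ, hZ2, ⟨A', j', x', H'⟩, T', r, s, m, hT'⟩ := asSD
      (Solv.pPrimeCore_quotient_pPrimeCore (G := G) 2) (H.quo hO) (by
        intro T r s m hT
        obtain ⟨T1, r1, s1, h1⟩ := dih_lift hO T hT
        exact hd ⟨T1, r1, s1, m, h1⟩)
    have hR : ¬ Group.IsSolvable ((G ⧸ Cfsg.pPrimeCore 2 G) ⧸ Z) := by
      intro h
      apply hQ
      have hZs : Group.IsSolvable Z := by
        haveI : Fact (Nat.Prime 2) := ⟨Nat.prime_two⟩
        haveI : IsCyclic Z := isCyclic_of_prime_card (p := 2) hZ2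
        letI := IsCyclic.commGroup (α := Z)
        infer_instance
      exact solv_of_quot hZs h
    obtain ⟨N', hN', ho, F, i1, i2, h3, hF⟩ := dihcase hR H' T' hT'
    set f : G →* (G ⧸ Cfsg.pPrimeCore 2 G) ⧸ Z :=
      (QuotientGroup.mk' Z).comp (QuotientGroup.mk' (Cfsg.pPrimeCore 2 G)) with hf
    have hfs : Function.Surjective f :=
      (QuotientGroup.mk'_surjective Z).comp (QuotientGroup.mk'_surjective (Cfsg.pPrimeCore 2 G))
    refine ⟨N'.comap f, inferInstance, Or.inr ⟨Nat.card (Cfsg.pPrimeCore 2 G) * Nat.card N', hO.mul ho, ?_⟩,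
      F, i1, i2, h3, ?_⟩
    · have h1 := card_comap f hfs N'
      have h2 := (Cfsg.pPrimeCore 2 G).card_eq_card_quotient_mul_card_subgroup
      have h3 := Z.card_eq_card_quotient_mul_card_subgroup
      rw [h2, h3, hZ2] at h1
      have h4 : 0 < Nat.card ((G ⧸ Cfsg.pPrimeCore 2 G) ⧸ Z) := Nat.card_pos
      apply Nat.eq_of_mul_eq_mul_right h4
      rw [h1]; ring
    · rcases hF with hF | hF
      · exact Or.inl (quot_iso f hfs N' hF)
      · exact Or.inr (quot_iso f hfs N' hF)

end Cfsg.Agent.GWP
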