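import Cfsg.Agent.GWP.Quo
import Cfsg.Agent.ZJ.Core
import Cfsg.Agent.H31.CycInt
import Cfsg.Agent.Frob.Action
import Cfsg.Agent.GWP.PGLid

set_option autoImplicit false
set_option linter.unusedSectionVars false

/-! The case where the centraliser of `j` contains a Sylow 2-subgroup. -/

namespace Cfsg.Agent.GWP
open Subgroup
open scoped Pointwise
universe u
variable {G : Type u} [Group G] [Finite G]

/-- no normal subgroup of index two: all involutions are conjugate -/
theorem conj_of_no_two {A : Subgroup G} {j x : G} (H : Cen A j x) (S : Sylow 2 G)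
    (hS : (S : Subgroup G) ≤ centralizer ({j} : Set G))
    (hno : ∀ M : Subgroup G, M.Normal → M.index = 2 → False) :
    ∀ t : G, t ≠ 1 → t * t = 1 → ∃ g : G, g * t * g⁻¹ = j := by
  haveI : Fact (Nat.Prime 2) := ⟨Nat.prime_two⟩
  have hzc : ∀ s ∈ (S : Subgroup G), s * j = j * s := fun s hs => mem_centralizer_singleton_iff.1 (hS hs)
  intro t t1 tt
  have ht2 : orderOf t = 2 := orderOf_eq_prime (by rw [pow_two]; exact tt) t1
  obtain ⟨g, hg⟩ := H4.exists_conj_mem_sylow S (x := t) (k := 1) (by rw [pow_one, pow_two]; exact tt)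
  have htg : orderOf (g * t * g⁻¹) = 2 := by rw [H4.orderOf_conj', ht2]
  have fin : ∀ w : G, orderOf w = 2 → w ∈ A → w = j := by
    intro w hw hwA
    rcases H.uniq w hwA (H4.mul_self_of_orderOf_two hw) with h | h
    · rw [h, orderOf_one] at hw; omega
    · exact h
  by_cases hA : g * t * g⁻¹ ∈ A
  · exact ⟨g, fin _ htg hA⟩
  · have hidx : ((S : Subgroup G) ⊓ A).relIndex (S : Subgroup G) = 2 := by
      rw [Subgroup.relIndex, Subgroup.index_eq_two_iff_exists_notMem_and']
      refine ⟨⟨_, hg⟩, fun hc => hA (mem_subgroupOf.1 hc).2, fun b => ?_⟩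
      by_cases hbA : (b : G) ∈ A
      · right
        exact mem_subgroupOf.2 ⟨b.2, hbA⟩
      · left
        rw [mem_subgroupOf]
        refine ⟨mul_mem hg b.2, ?_⟩
        obtain ⟨a, ha, ha'⟩ := (H.mem_or _ (hzc _ hg)).resolve_left hA
        obtain ⟨c, hc, hc'⟩ := (H.mem_or _ (hzc _ b.2)).resolve_left hbA
        change g * t * g⁻¹ * (b : G) ∈ A
        rw [ha', hc']
        have : a * x * (c * x) = a * c⁻¹ := by
          calc a * x * (c * x) = a * (x * c) * x := by group
            _ = a * (c⁻¹ * x) * x := by rw [H.x_mul c hc]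
            _ = a * c⁻¹ * (x * x) := by group
            _ = a * c⁻¹ := by rw [H.xx, mul_one]
        rw [this]
        exact mul_mem ha (inv_mem hc)
    rcases S0111.result S ((S : Subgroup G) ⊓ A) inf_le_left hidx (g * t * g⁻¹) htg hg
      (fun h => hA h.2) with ⟨M, hM, hMi, -⟩ | ⟨k, hk⟩
    · exact (hno M hM hMi).elim
    · refine ⟨k * g, ?_⟩
      have h1 : k * g * t * (k * g)⁻¹ = k * (g * t * g⁻¹) * k⁻¹ := by group
      rw [h1]
      exact fin _ (by rw [H4.orderOf_conj', htg]) hk.2

theorem Cen.solv {A : Subgroup G} {j x : G} (H : Cen A j x) : Group.IsSolvable (centralizer ({j} : Set G)) := by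
  apply H1.solvable_of_commutator
  have key : ∀ c ∈ commutator (centralizer ({j} : Set G)), ((c : centralizer ({j} : Set G)) : G) ∈ A := by
    have : commutator (centralizer ({j} : Set G)) ≤ A.comap (centralizer ({j} : Set G)).subtype := by
      rw [commutator_def, commutator_le]
      rintro ⟨g, hg⟩ - ⟨h, hh⟩ -
      rw [mem_comap]
      change g * h * g⁻¹ * h⁻¹ ∈ A
      rw [mem_centralizer_singleton_iff] at hg hh
      rcases H.mem_or g hg with h1 | ⟨a, ha, rfl⟩
      · rcases H.mem_or h hh with h2 | ⟨b, hb, rfl⟩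
        · exact mul_mem (mul_mem (mul_mem h1 h2) (inv_mem h1)) (inv_mem h2)
        · have e : g * (b * x) * g⁻¹ * (b * x)⁻¹ = g * ((b * x) * g⁻¹ * (b * x)⁻¹) := by group
          rw [e, H.ax_conj b g⁻¹ hb (inv_mem h1)]
          exact mul_mem h1 (inv_mem (inv_mem h1))
      · rcases H.mem_or h hh with h2 | ⟨b, hb, rfl⟩
        · rw [H.ax_conj a h ha h2]
          exact mul_mem (inv_mem h2) (inv_mem h2)
        · have e1 : (a * x) * (b * x) = a * b⁻¹ := by
            calc a * x * (b * x) = a * (x * b) * x := by group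
              _ = a * (b⁻¹ * x) * x := by rw [H.x_mul b hb]
              _ = a * b⁻¹ * (x * x) := by group
              _ = a * b⁻¹ := by rw [H.xx, mul_one]
          have e2 : (b * x) * (a * x) = b * a⁻¹ := by
            calc b * x * (a * x) = b * (x * a) * x := by group
              _ = b * (a⁻¹ * x) * x := by rw [H.x_mul a ha]
              _ = b * a⁻¹ * (x * x) := by group
              _ = b * a⁻¹ := by rw [H.xx, mul_one]
          have e : a * x * (b * x) * (a * x)⁻¹ * (b * x)⁻¹ = ((a * x) * (b * x)) * ((b * x) * (a * x))⁻¹ := by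
            group
          rw [e, e1, e2]
          exact mul_mem (mul_mem ha (inv_mem hb)) (inv_mem (mul_mem hb (inv_mem ha)))
    intro c hc
    exact this hc
  apply solvable_of_comm
  intro a ha b hb
  exact Subtype.ext (H.hab _ (key a ha) _ (key b hb))

/-- a group whose Sylow 2-subgroup contains at most the involution `j`, with solvable centraliser, is solvable -/
theorem solv_of_uniq (P : Sylow 2 G) {j : G} (hC : Group.IsSolvable (centralizer ({j} : Set G)))
    (hP : ∀ s ∈ (P : Subgroup G), s ≠ 1 → s * s = 1 → s = j) : Group.IsSolvable G := by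
  haveI : Fact (Nat.Prime 2) := ⟨Nat.prime_two⟩
  by_cases hodd : Odd (Nat.card G)
  · exact FT.solvable_of_odd hodd
  have h2 : 2 ∣ Nat.card G := even_iff_two_dvd.1 (Nat.not_odd_iff_even.1 hodd)
  have h3 : 2 ∣ Nat.card (P : Subgroup G) := P.dvd_card_of_dvd_card h2
  obtain ⟨s, hs⟩ := exists_prime_orderOf_dvd_card' 2 h3
  have s1 : (s : G) ≠ 1 := by
    intro h
    have : s = 1 := Subtype.ext h
    rw [this, orderOf_one] at hs; omega
  have ss : (s : G) * s = 1 := by
    have := pow_orderOf_eq_one s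
    rw [hs, pow_two] at this
    exact congrArg Subtype.val this
  have hsj := hP s s.2 s1 ss
  have hjj : j * j = 1 := by rw [← hsj]; exact ss
  have hj1 : j ≠ 1 := by rw [← hsj]; exact s1
  have hj2 : orderOf j = 2 := orderOf_eq_prime (by rw [pow_two]; exact hjj) hj1
  have hiso : ∀ g : G, g * j * g⁻¹ ∈ P → g * j * g⁻¹ = j := by
    intro g hg
    apply hP _ hg
    · rw [ne_eq, conj_eq_one_iff]; exact hj1
    · calc g * j * g⁻¹ * (g * j * g⁻¹) = g * (j * j) * g⁻¹ := by group
        _ = 1 := by rw [hjj]; group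
  have hO : Odd (Nat.card (Cfsg.pPrimeCore 2 G)) := Cfsg.Agent.H4.odd_card_pPrimeCore_two
  have hOs : Group.IsSolvable (Cfsg.pPrimeCore 2 G) := FT.solvable_of_odd hO
  let φ : centralizer ({j} : Set G) →* G ⧸ Cfsg.pPrimeCore 2 G :=
    (QuotientGroup.mk' (Cfsg.pPrimeCore 2 G)).comp (centralizer ({j} : Set G)).subtype
  have hφ : Function.Surjective φ := by
    intro z
    obtain ⟨g, rfl⟩ := QuotientGroup.mk_surjective z
    have h4 : g * j * g⁻¹ * j⁻¹ ∈ Cfsg.pPrimeCore 2 G := by
      have h5 := inv_mem (Cfsg.Agent.H4.zstar_sylow P hj2 hiso g)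
      have h6 : (j * g * j⁻¹ * g⁻¹)⁻¹ = g * j * g⁻¹ * j⁻¹ := by group
      rwa [h6] at h5
    obtain ⟨o, ho, hoc⟩ := comm_quo hO hjj h4
    refine ⟨⟨o * g, mem_centralizer_singleton_iff.2 hoc⟩, ?_⟩
    change ((o * g : G) : G ⧸ Cfsg.pPrimeCore 2 G) = (g : G ⧸ Cfsg.pPrimeCore 2 G)
    rw [QuotientGroup.mk_mul, (QuotientGroup.eq_one_iff o).2 ho, one_mul]
  have hq : Group.IsSolvable (G ⧸ Cfsg.pPrimeCore 2 G) := Group.isSolvable_of_surjective hφ
  exact Group.isSolvable_of_ker_le_range (Cfsg.pPrimeCore 2 G).subtype (QuotientGroup.mk' (Cfsg.pPrimeCore 2 G)) (by simp)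

/-- normal subgroups `L` with `S ∩ L ≤ A` are solvable -/
theorem solv_normal {A : Subgroup G} {j x : G} (H : Cen A j x) (S : Sylow 2 G) (L : Subgroup G) [L.Normal]
    (hL : (S : Subgroup G) ⊓ L ≤ A) : Group.IsSolvable L := by
  haveI : Fact (Nat.Prime 2) := ⟨Nat.prime_two⟩
  obtain ⟨P, hP⟩ := ZJ.exists_sylow_map_eq_inf S L
  have hPA : ∀ s ∈ (P : Subgroup L), s ≠ 1 → s * s = 1 → (s : G) = j := by
    intro s hs s1 ss
    have h1 : (s : G) ∈ (S : Subgroup G) ⊓ L := by rw [← hP]; exact ⟨s, hs, rfl⟩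
    exact (H.uniq _ (hL h1) (congrArg Subtype.val ss)).resolve_left (fun h => s1 (Subtype.ext h))
  by_cases hjL : j ∈ L
  · have hCs := H.solv
    have hC : Group.IsSolvable (centralizer ({(⟨j, hjL⟩ : L)} : Set L)) := by
      let φ : centralizer ({(⟨j, hjL⟩ : L)} : Set L) →* centralizer ({j} : Set G) :=
        { toFun := fun g => ⟨((g : L) : G), by
            rw [mem_centralizer_singleton_iff]
            exact congrArg Subtype.val (mem_centralizer_singleton_iff.1 g.2)⟩
          map_one' := rfl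
          map_mul' := fun _ _ => rfl }
      have hφ : Function.Injective φ := by
        intro a b hab
        exact Subtype.ext (Subtype.ext (congrArg (fun z : centralizer ({j} : Set G) => (z : G)) hab))
      exact Group.isSolvable_of_isSolvable_injective (f := φ) hφ
    exact solv_of_uniq P hC (fun s hs s1 ss => Subtype.ext (hPA s hs s1 ss))
  · apply solv_of_uniq P (j := 1)
    · have h0 : ∀ s ∈ (P : Subgroup L), s * s = 1 → s = 1 := by
        intro s hs ss
        by_contra s1
        apply hjL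
        rw [← hPA s hs s1 ss]; exact s.2
      have hodd : Odd (Nat.card L) := by
        by_contra hodd
        have h2 : 2 ∣ Nat.card L := even_iff_two_dvd.1 (Nat.not_odd_iff_even.1 hodd)
        have h3 : 2 ∣ Nat.card (P : Subgroup L) := P.dvd_card_of_dvd_card h2
        obtain ⟨s, hs⟩ := exists_prime_orderOf_dvd_card' 2 h3
        have hss : (s : L) * s = 1 := by
          have := pow_orderOf_eq_one s
          rw [hs, pow_two] at this
          exact congrArg Subtype.val this
        have h4 := h0 s s.2 hss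
        have : s = 1 := Subtype.ext h4
        rw [this, orderOf_one] at hs; omega
      have := FT.solvable_of_odd hodd
      infer_instance
    · intro s hs s1 ss
      exfalso
      apply hjL
      rw [← hPA s hs s1 ss]; exact s.2

theorem solv_of_quot {N : Subgroup G} [N.Normal] (h1 : Group.IsSolvable N) (h2 : Group.IsSolvable (G ⧸ N)) :
    Group.IsSolvable G :=
  Group.isSolvable_of_ker_le_range N.subtype (QuotientGroup.mk' N) (by simp)

theorem solv_of_index_two {N : Subgroup G} [N.Normal] (h1 : Group.IsSolvable N) (h2 : N.index = 2) :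
    Group.IsSolvable G := by
  haveI : Fact (Nat.Prime 2) := ⟨Nat.prime_two⟩
  apply solv_of_quot h1
  haveI : IsCyclic (G ⧸ N) := isCyclic_of_prime_card (p := 2) h2
  letI := IsCyclic.commGroup (α := G ⧸ N)
  infer_instance

/-- products of two elements of `C(j) ∖ A` lie in `A` -/
theorem Cen.mul_mem_of {A : Subgroup G} {j x : G} (H : Cen A j x) {g h : G} (hg : g * j = j * g)
    (hh : h * j = j * h) (hgA : g ∉ A) (hhA : h ∉ A) : g * h ∈ A := by
  obtain ⟨a, ha, rfl⟩ := (H.mem_or g hg).resolve_left hgA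
  obtain ⟨c, hc, rfl⟩ := (H.mem_or h hh).resolve_left hhA
  have : a * x * (c * x) = a * c⁻¹ := by
    calc a * x * (c * x) = a * (x * c) * x := by group
      _ = a * (c⁻¹ * x) * x := by rw [H.x_mul c hc]
      _ = a * c⁻¹ * (x * x) := by group
      _ = a * c⁻¹ := by rw [H.xx, mul_one]
  rw [this]
  exact mul_mem ha (inv_mem hc)

theorem Cen.sq_of {A : Subgroup G} {j x : G} (H : Cen A j x) {g : G} (hg : g * j = j * g) (hgA : g ∉ A) :
    g * g = 1 := by
  obtain ⟨a, ha, rfl⟩ := (H.mem_or g hg).resolve_left hgA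
  exact H.ax_sq a ha

theorem Cen.inv_of' {A : Subgroup G} {j x : G} (H : Cen A j x) {g a : G} (hg : g * j = j * g) (hgA : g ∉ A)
    (ha : a ∈ A) : g * a * g⁻¹ = a⁻¹ := by
  obtain ⟨b, hb, rfl⟩ := (H.mem_or g hg).resolve_left hgA
  exact H.ax_conj b a hb ha

/-- `A ∩ S` is cyclic -/
theorem Cen.cyc {A : Subgroup G} {j x : G} (H : Cen A j x) (S : Subgroup G) (hS : IsPGroup 2 S) :
    ∃ c ∈ S ⊓ A, ∀ s ∈ S ⊓ A, ∃ n : ℤ, c ^ n = s := by
  classical
  haveI : Fact (Nat.Prime 2) := ⟨Nat.prime_two⟩
  set C : Subgroup G := S ⊓ A with hC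
  have hCp : IsPGroup 2 C := hS.to_le inf_le_left
  letI : CommGroup C := { (inferInstance : Group C) with
    mul_comm := fun a b => Subtype.ext (H.hab a a.2.2 b b.2.2) }
  have hu : ∀ b : C, b * b = 1 → b = 1 ∨ (b : G) = j := by
    intro b hb
    rcases H.uniq b b.2.2 (congrArg Subtype.val hb) with h | h
    · exact Or.inl (Subtype.ext h)
    · exact Or.inr h
  have hcyc : IsCyclic C := by
    apply Frob.isCyclic_of_comm_of_sq
    intro p hp B hB
    have hBp : IsPGroup 2 B := hCp.to_subgroup B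
    obtain ⟨k, hk⟩ := IsPGroup.iff_card.1 hBp
    have hp2 : p = 2 := by
      have h1 : p ∣ 2 ^ k := by rw [← hk, hB]; exact dvd_mul_right p p
      exact (Nat.prime_dvd_prime_iff_eq hp Nat.prime_two).1 (hp.dvd_of_dvd_pow h1)
    subst hp2
    by_contra hncyc
    have h2 : ∀ b : B, b * b = 1 := by
      intro b
      have h3 : orderOf b ∣ 2 * 2 := by rw [← hB]; exact orderOf_dvd_natCard b
      have h4 : orderOf b ∣ 2 ^ 2 := by rw [sq]; exact h3
      obtain ⟨i, hi, hi'⟩ := (Nat.dvd_prime_pow Nat.prime_two).1 h4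
      interval_cases i
      · rw [pow_zero, orderOf_eq_one_iff] at hi'
        rw [hi', one_mul]
      · rw [pow_one] at hi'
        rw [← sq, ← hi', pow_orderOf_eq_one]
      · exfalso
        apply hncyc
        apply isCyclic_of_orderOf_eq_card b
        rw [hi', hB]; rfl
    have h5 : ∀ b : B, (b : C) = 1 ∨ ((b : C) : G) = j := fun b =>
      hu b (congrArg Subtype.val (h2 b))
    have h6 : Function.Injective (fun b : B => if (b : C) = 1 then (0 : Fin 2) else 1) := by
      intro b b' hbb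
      rcases h5 b with hb | hb
      · rcases h5 b' with hb' | hb'
        · exact Subtype.ext (hb.trans hb'.symm)
        · have : (b' : C) ≠ 1 := by
            intro h; apply H.t1; rw [← hb', h]; rfl
          simp only [hb, if_true, this, if_false] at hbb
          exact absurd hbb (by decide)
      · have hb1 : (b : C) ≠ 1 := by
          intro h; apply H.t1; rw [← hb, h]; rfl
        rcases h5 b' with hb' | hb'
        · simp only [hb', if_true, hb1, if_false] at hbb
          exact absurd hbb (by decide)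
        · exact Subtype.ext (Subtype.ext (hb.trans hb'.symm))
    have h7 := Nat.card_le_card_of_injective _ h6
    rw [hB, Nat.card_eq_fintype_card, Fintype.card_fin] at h7
    omega
  obtain ⟨c, hc⟩ := hcyc.exists_generator
  refine ⟨c, c.2, fun s hs => ?_⟩
  obtain ⟨n, hn⟩ := hc ⟨s, hs⟩
  exact ⟨n, congrArg Subtype.val hn⟩

theorem core_center (hns : ¬ Group.IsSolvable G) (hO : ∀ N : Subgroup G, N.Normal → Odd (Nat.card N) → N = ⊥)
    (hC : Core G) : center G = ⊥ := by
  by_contra h
  have h1 : ¬ Odd (Nat.card (center G)) := fun h2 => h (hO _ inferInstance h2)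
  obtain ⟨t, ht, t1, tt⟩ := exists_inv h1
  have h2 := solv_cent hC.pp t1 tt
  have h3 : centralizer ({t} : Set G) = ⊤ := by
    rw [eq_top_iff]
    intro g _
    rw [mem_centralizer_singleton_iff]
    exact mem_center_iff.1 ht g
  rw [h3] at h2
  exact hns (Group.isSolvable_of_surjective (f := (Subgroup.topEquiv (G := G)).toMonoidHom)
    (Subgroup.topEquiv (G := G)).surjective)

theorem asD (hns : ¬ Group.IsSolvable G) {A : Subgroup G} {j x : G} (H : Cen A j x) (S : Sylow 2 G)
    (hS : (S : Subgroup G) ≤ centralizer ({j} : Set G)) :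
    ∃ (N : Subgroup G) (_ : N.Normal), Odd (Nat.card ↥N) ∧
      ∃ (F : Type) (_ : Field F) (_ : Fintype F), 3 < Fintype.card F ∧
        (Nonempty (G ⧸ N ≃* Matrix.ProjectiveSpecialLinearGroup (Fin 2) F) ∨
          Nonempty (G ⧸ N ≃* Matrix.ProjGenLinGroup (Fin 2) F)) := by
  haveI : Fact (Nat.Prime 2) := ⟨Nat.prime_two⟩
  have hSj : ∀ s ∈ (S : Subgroup G), s * j = j * s := fun s hs => mem_centralizer_singleton_iff.1 (hS hs)
  by_cases hno : ∀ M : Subgroup G, M.Normal → M.index = 2 → False
  · obtain ⟨F, iF, jF, h3, -, e⟩ := psl_quo hns (fun M hM => hno M (normal_of_index_eq_two hM) hM) H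
      (conj_of_no_two H S hS hno)
    exact ⟨Cfsg.pPrimeCore 2 G, inferInstance, Cfsg.Agent.H4.odd_card_pPrimeCore_two, F, iF, jF, h3, Or.inl e⟩
  push Not at hno
  obtain ⟨G0, hG0n, hG0i, -⟩ := hno
  have hG0s : ¬ Group.IsSolvable G0 := fun h => hns (solv_of_index_two h hG0i)
  obtain ⟨P, hP⟩ := ZJ.exists_sylow_map_eq_inf S G0
  -- an involution of `S ∩ G0` outside `A`
  obtain ⟨y, hyS, hyG, hyA⟩ : ∃ y ∈ (S : Subgroup G), y ∈ G0 ∧ y ∉ A := by
    by_contra hcon
    push Not at hcon
    exact hG0s (solv_normal H S G0 (fun s hs => hcon s hs.1 hs.2))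
  have hyy : y * y = 1 := H.sq_of (hSj y hyS) hyA
  have y1 : y ≠ 1 := by rintro rfl; exact hyA (one_mem _)
  have hjG : j ∈ G0 := by
    by_contra hj
    apply hG0s
    have h1 : ∀ s ∈ (S : Subgroup G), s ∈ G0 → s ∈ A → s = 1 := by
      have hodd : Odd (Nat.card ((S : Subgroup G) ⊓ G0 ⊓ A : Subgroup G)) := by
        by_contra hodd
        obtain ⟨t, ht, t1, tt⟩ := exists_inv hodd
        apply hj
        rw [← (H.uniq t ht.2 tt).resolve_left t1]
        exact ht.1.2
      have hp : IsPGroup 2 ((S : Subgroup G) ⊓ G0 ⊓ A : Subgroup G) :=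
        S.isPGroup'.to_le (inf_le_left.trans inf_le_left)
      intro s hs hsG hsA
      have h2 := odd_of_mem hodd (x := s) ⟨⟨hs, hsG⟩, hsA⟩
      obtain ⟨k, hk⟩ := hp ⟨s, ⟨⟨hs, hsG⟩, hsA⟩⟩
      have hk' : s ^ 2 ^ k = 1 := congrArg Subtype.val hk
      have h3 := orderOf_dvd_of_pow_eq_one hk'
      obtain ⟨m, -, hm⟩ := (Nat.dvd_prime_pow Nat.prime_two).1 h3
      rw [hm] at h2
      rcases Nat.eq_zero_or_pos m with h4 | h4
      · rw [h4, pow_zero] at hm; exact orderOf_eq_one_iff.1 hm
      · exact absurd h2 (by rw [Nat.not_odd_iff_even]; exact Nat.even_pow.2 ⟨even_two, h4.ne'⟩)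
    have h2 : ∀ s ∈ (S : Subgroup G), s ∈ G0 → s = 1 ∨ s = y := by
      intro s hs hsG
      by_cases hsA : s ∈ A
      · exact Or.inl (h1 s hs hsG hsA)
      · right
        have h3 := h1 (s * y) (mul_mem hs hyS) (mul_mem hsG hyG) (H.mul_mem_of (hSj s hs) (hSj y hyS) hsA hyA)
        rw [eq_inv_of_mul_eq_one_left h3]
        exact inv_eq_of_mul_eq_one_left hyy
    apply H31.CycInt.solvable_of_cyclic_sylow P
    have hyP : (⟨y, hyG⟩ : G0) ∈ (P : Subgroup G0) := by
      have : y ∈ (P : Subgroup G0).map G0.subtype := by rw [hP]; exact ⟨hyS, hyG⟩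
      obtain ⟨z, hz, hz'⟩ := this
      have : z = ⟨y, hyG⟩ := Subtype.ext hz'
      rwa [this] at hz
    refine ⟨⟨⟨y, hyG⟩, hyP⟩, fun s => ?_⟩
    have h4 : ((s : G0) : G) ∈ (S : Subgroup G) ⊓ G0 := by rw [← hP]; exact ⟨s, s.2, rfl⟩
    rcases h2 _ h4.1 h4.2 with h5 | h5
    · have : s = 1 := Subtype.ext (Subtype.ext h5)
      exact ⟨0, by simp [this]⟩
    · have : s = ⟨⟨y, hyG⟩, hyP⟩ := Subtype.ext (Subtype.ext h5)
      exact ⟨1, by simp [this]⟩
  obtain ⟨c, hcSA, hcgen⟩ := H.cyc (S : Subgroup G) S.isPGroup'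
  have hSodd : ¬ 2 ∣ (S : Subgroup G).index := S.not_dvd_index
  have hcG : c ∉ G0 := by
    intro hcG
    apply hSodd
    suffices hle : (S : Subgroup G) ≤ G0 by
      have h := Subgroup.index_dvd_of_le hle
      rwa [hG0i] at h
    intro s hs
    have hA0 : ∀ a ∈ (S : Subgroup G) ⊓ A, a ∈ G0 := by
      intro a ha
      obtain ⟨n, hn⟩ := hcgen a ha
      rw [← hn]; exact zpow_mem hcG n
    by_cases hsA : s ∈ A
    · exact hA0 s ⟨hs, hsA⟩
    · have h1 := hA0 (s * y) ⟨mul_mem hs hyS, H.mul_mem_of (hSj s hs) (hSj y hyS) hsA hyA⟩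
      have h2 : s = (s * y) * y⁻¹ := by group
      rw [h2]; exact mul_mem h1 (inv_mem hyG)
  have hno0 : ∀ K : Subgroup G0, K.Normal → K.index = 2 → False := by
    intro K hKn hKi
    set K' := K.map G0.subtype with hK'
    have hK'le : K' ≤ G0 := map_subtype_le K
    have hK'i : K'.index = 4 := by
      have h1 : K'.relIndex G0 * G0.index = K'.index := Subgroup.relIndex_mul_index hK'le
      have h2 : K'.relIndex G0 = 2 := by
        rw [Subgroup.relIndex, hK', Subgroup.subgroupOf, Subgroup.comap_map_eq_self_of_injective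
          G0.subtype_injective, hKi]
      rw [h2, hG0i] at h1; omega
    set L := K'.normalCore with hL
    by_cases hLA : (S : Subgroup G) ⊓ L ≤ A
    · apply hns
      have h1 := solv_normal H S L hLA
      have h2 : Group.IsSolvable (Equiv.Perm (G ⧸ K')) :=
        H72.isSolvable_perm_of_card_le_four (by change K'.index ≤ 4; omega)
      have h3 : L = (MulAction.toPermHom G (G ⧸ K')).ker := Subgroup.normalCore_eq_ker K'
      have h4 : Group.IsSolvable (MulAction.toPermHom G (G ⧸ K')).ker := by rw [← h3]; exact h1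
      refine Group.isSolvable_of_ker_le_range (MulAction.toPermHom G (G ⧸ K')).ker.subtype
        (MulAction.toPermHom G (G ⧸ K')) ?_
      rw [Subgroup.range_subtype]
    · obtain ⟨z, hz, hzA⟩ := SetLike.not_le_iff_exists.1 hLA
      have hzK : z ∈ K' := Subgroup.normalCore_le _ hz.2
      have hzK2 : c⁻¹ * z * c ∈ K' := by
        have := (inferInstance : L.Normal).conj_mem z hz.2 c⁻¹
        rw [inv_inv] at this
        exact Subgroup.normalCore_le _ this
      have hzz : z * z = 1 := H.sq_of (hSj z hz.1) hzA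
      have hzc := H.inv_of' (hSj z hz.1) hzA (inv_mem hcSA.2)
      have hcc : c * c ∈ K' := by
        have : c * c = z * (c⁻¹ * z * c) := by
          have hzi : z⁻¹ = z := inv_eq_of_mul_eq_one_left hzz
          rw [hzi, inv_inv] at hzc
          calc c * c = (z * c⁻¹ * z) * c := by rw [hzc]
            _ = z * (c⁻¹ * z * c) := by group
        rw [this]; exact mul_mem hzK hzK2
      have hall : ∀ s ∈ (S : Subgroup G), s ∈ G0 → s ∈ K' := by
        have hA0 : ∀ s ∈ (S : Subgroup G), s ∈ G0 → s ∈ A → s ∈ K' := by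
          intro s hs hsG hsA
          obtain ⟨n, hn⟩ := hcgen s ⟨hs, hsA⟩
          rcases Int.even_or_odd' n with ⟨m, hm | hm⟩
          · rw [← hn, hm, zpow_mul]
            have : c ^ (2 : ℤ) = c * c := by rw [zpow_ofNat, pow_two]
            rw [this]
            exact zpow_mem hcc m
          · exfalso
            apply hcG
            have h1 : c = (c * c) ^ (-m) * s := by
              rw [← hn, hm]
              have : c * c = c ^ (2 : ℤ) := by rw [zpow_ofNat, pow_two]
              rw [this, ← zpow_mul, ← zpow_add]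
              have h2 : 2 * -m + (2 * m + 1) = 1 := by ring
              rw [h2, zpow_one]
            rw [h1]
            exact mul_mem (zpow_mem (hK'le hcc) _) hsG
        intro s hs hsG
        by_cases hsA : s ∈ A
        · exact hA0 s hs hsG hsA
        · have h1 := hA0 (s * z) (mul_mem hs hz.1) (mul_mem hsG (hK'le hzK))
            (H.mul_mem_of (hSj s hs) (hSj z hz.1) hsA hzA)
          have h2 : s = (s * z) * z⁻¹ := by group
          rw [h2]; exact mul_mem h1 (inv_mem hzK)
      have hPK : (P : Subgroup G0) ≤ K := by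
        intro s hs
        have h4 : (s : G) ∈ (S : Subgroup G) ⊓ G0 := by rw [← hP]; exact ⟨s, hs, rfl⟩
        obtain ⟨w, hw, hw'⟩ := hall s h4.1 h4.2
        have : w = s := Subtype.ext hw'
        rwa [this] at hw
      have h5 := Subgroup.index_dvd_of_le hPK
      rw [hKi] at h5
      exact P.not_dvd_index h5
  -- `G0`
  have H0 : Cen (A.subgroupOf G0) (⟨j, hjG⟩ : G0) (⟨y, hyG⟩ : G0) :=
    { hab := fun a ha b hb => Subtype.ext (H.hab a ha b hb)
      tA := H.tA
      t1 := fun h => H.t1 (congrArg Subtype.val h)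
      tt := Subtype.ext H.tt
      uniq := by
        intro a ha haa
        rcases H.uniq a ha (congrArg Subtype.val haa) with h | h
        · exact Or.inl (Subtype.ext h)
        · exact Or.inr (Subtype.ext h)
      xA := hyA
      xx := Subtype.ext hyy
      inv := fun a ha => Subtype.ext (H.inv_of' (hSj y hyS) hyA ha)
      ct := by
        intro g hg
        by_cases hgA : (g : G) ∈ A
        · exact Or.inl hgA
        · exact Or.inr (H.mul_mem_of (congrArg Subtype.val hg) (hSj y hyS) hgA hyA) }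
  have hPj : (P : Subgroup G0) ≤ centralizer ({(⟨j, hjG⟩ : G0)} : Set G0) := by
    intro s hs
    have h4 : (s : G) ∈ (S : Subgroup G) ⊓ G0 := by rw [← hP]; exact ⟨s, hs, rfl⟩
    rw [mem_centralizer_singleton_iff]
    exact Subtype.ext (hSj s h4.1)
  have hi0 : ∀ M : Subgroup G0, M.index ≠ 2 := fun M hM => hno0 M (normal_of_index_eq_two hM) hM
  have hconj0 := conj_of_no_two H0 P hPj hno0
  obtain ⟨F, iF, jF, h3, hFodd, ⟨e0⟩⟩ := psl_quo hG0s hi0 H0 hconj0
  set O0 := Cfsg.pPrimeCore 2 G0 with hO0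
  set O : Subgroup G := O0.map G0.subtype with hO
  have hOn : O.Normal := by
    haveI : O0.Characteristic := Cfsg.Agent.Solv.pPrimeCore_characteristic 2
    exact ConjAct.normal_of_characteristic_of_normal
  have hOG : O ≤ G0 := map_subtype_le _
  have hOodd : Odd (Nat.card O) := by
    have h1 : Nat.card O = Nat.card O0 :=
      Nat.card_congr (Subgroup.equivMapOfInjective O0 _ G0.subtype_injective).symm.toEquiv
    rw [h1]; exact Cfsg.Agent.H4.odd_card_pPrimeCore_two
  have hOodd0 : Odd (Nat.card O0) := Cfsg.Agent.H4.odd_card_pPrimeCore_two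
  set M : Subgroup (G ⧸ O) := G0.map (QuotientGroup.mk' O) with hM
  have hMG : ∀ g : G, (g : G ⧸ O) ∈ M → g ∈ G0 := by
    rintro g ⟨g', hg', h⟩
    have h1 : g'⁻¹ * g ∈ O := QuotientGroup.eq.1 h
    have h2 : g = g' * (g'⁻¹ * g) := by group
    rw [h2]; exact mul_mem hg' (hOG h1)
  have hMi : M.index = 2 := by
    have h1 := Subgroup.index_comap_of_surjective M (QuotientGroup.mk'_surjective O)
    have h2 : M.comap (QuotientGroup.mk' O) = G0 := by
      apply le_antisymm
      · intro g hg; exact hMG g hg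
      · intro g hg; exact ⟨g, hg, rfl⟩
    rw [← h1, h2, hG0i]
  let f : G0 →* M := (QuotientGroup.mk' O).subgroupMap G0
  have hf : Function.Surjective f := (QuotientGroup.mk' O).subgroupMap_surjective G0
  have hfk : f.ker = O0 := by
    ext g
    rw [MonoidHom.mem_ker]
    constructor
    · intro h
      have h1 : ((g : G) : G ⧸ O) = 1 := congrArg Subtype.val h
      obtain ⟨w, hw, hw'⟩ := (QuotientGroup.eq_one_iff (g : G)).1 h1
      have : w = g := Subtype.ext hw'
      rwa [this] at hw
    · intro h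
      apply Subtype.ext
      change ((g : G) : G ⧸ O) = 1
      exact (QuotientGroup.eq_one_iff (g : G)).2 ⟨g, h, rfl⟩
  let e1 : G0 ⧸ O0 ≃* M := (QuotientGroup.quotientMulEquivOfEq hfk.symm).trans
    (QuotientGroup.quotientKerEquivOfSurjective f hf)
  have hcen0 : center (G0 ⧸ O0) = ⊥ := by
    apply core_center (quo_ns hG0s hOodd0) ?_ (core_quo H0 hconj0 hOodd0)
    intro N hN hNo
    have h1 : N ≤ Cfsg.pPrimeCore 2 (G0 ⧸ O0) := le_sSup ⟨hN, Nat.coprime_two_right.2 hNo⟩
    have h2 : Cfsg.pPrimeCore 2 (G0 ⧸ O0) = ⊥ := Cfsg.Agent.Solv.pPrimeCore_quotient_pPrimeCore 2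
    exact le_bot_iff.1 (h1.trans h2.le)
  have hcenM : ∀ z ∈ M, (∀ m ∈ M, z * m = m * z) → z = 1 := by
    intro z hz hzm
    have h1 : e1.symm ⟨z, hz⟩ ∈ center (G0 ⧸ O0) := by
      rw [mem_center_iff]
      intro g
      apply e1.injective
      rw [map_mul, map_mul, MulEquiv.apply_symm_apply]
      exact Subtype.ext (hzm (e1 g) (e1 g).2).symm
    rw [hcen0, Subgroup.mem_bot] at h1
    have h2 : (⟨z, hz⟩ : M) = 1 := by
      have := congrArg e1 h1
      rwa [MulEquiv.apply_symm_apply, map_one] at this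
    exact congrArg Subtype.val h2
  haveI hMn : M.Normal := normal_of_index_eq_two hMi
  have hcent : centralizer (M : Set (G ⧸ O)) = ⊥ := by
    rw [eq_bot_iff]
    intro z hz
    rw [Subgroup.mem_bot]
    by_contra hz1
    have hzm : ∀ m ∈ M, z * m = m * z := fun m hm => (mem_centralizer_iff.1 hz m hm).symm
    have hzM : z ∉ M := fun h => hz1 (hcenM z h hzm)
    have hprod : ∀ w w' : G ⧸ O, w ∉ M → w' ∉ M → w * w' ∈ M := by
      intro w w' hw hw'
      rw [Subgroup.mul_mem_iff_of_index_two hMi]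
      exact iff_of_false hw hw'
    have hzz : z * z = 1 := hcenM _ (hprod z z hzM hzM) (by
      intro m hm
      rw [mul_assoc, hzm m hm, ← mul_assoc, hzm m hm, mul_assoc])
    have hzc : ∀ g : G ⧸ O, g * z * g⁻¹ = z := by
      intro g
      have h1 : g * z * g⁻¹ ∉ M := by
        intro h
        apply hzM
        have := hMn.conj_mem _ h g⁻¹
        have e : g⁻¹ * (g * z * g⁻¹) * g⁻¹⁻¹ = z := by group
        rwa [e] at this
      have h2 : ∀ m ∈ M, (g * z * g⁻¹) * m = m * (g * z * g⁻¹) := by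
        intro m hm
        have h3 : g⁻¹ * m * g ∈ M := by
          have := hMn.conj_mem m hm g⁻¹
          rwa [inv_inv] at this
        have h4 := hzm _ h3
        calc (g * z * g⁻¹) * m = g * (z * (g⁻¹ * m * g)) * g⁻¹ := by group
          _ = g * ((g⁻¹ * m * g) * z) * g⁻¹ := by rw [h4]
          _ = m * (g * z * g⁻¹) := by group
      have h5 : (g * z * g⁻¹) * z = 1 := hcenM _ (hprod _ _ h1 hzM) (by
        intro m hm
        rw [mul_assoc, hzm m hm, ← mul_assoc, h2 m hm, mul_assoc])
      have h6 := eq_inv_of_mul_eq_one_left h5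
      rw [h6]
      exact inv_eq_of_mul_eq_one_left hzz
    obtain ⟨t, t1, tt, htz⟩ := lift_inv hOodd hz1 hzz
    obtain ⟨g, hg⟩ := H4.exists_conj_mem_sylow S (x := t) (k := 1) (by rw [pow_one, pow_two]; exact tt)
    set t' := g * t * g⁻¹ with ht'
    have ht'z : (t' : G ⧸ O) = z := by
      rw [ht', QuotientGroup.mk_mul, QuotientGroup.mk_mul, htz, QuotientGroup.mk_inv]
      exact hzc _
    have t'1 : t' ≠ 1 := by rw [ht', ne_eq, conj_eq_one_iff]; exact t1
    have t't' : t' * t' = 1 := by
      calc t' * t' = g * (t * t) * g⁻¹ := by rw [ht']; group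
        _ = 1 := by rw [tt]; group
    have ht'G : t' ∉ G0 := by
      intro h; apply hzM; rw [← ht'z]; exact ⟨t', h, rfl⟩
    have ht'A : t' ∉ A := by
      intro h
      apply ht'G
      rw [(H.uniq t' h t't').resolve_left t'1]; exact hjG
    -- `t'` commutes with `c`
    have hcomm : t' * c * t'⁻¹ * c⁻¹ = 1 := by
      have h1 : t' * c * t'⁻¹ * c⁻¹ ∈ (S : Subgroup G) :=
        mul_mem (mul_mem (mul_mem hg hcSA.1) (inv_mem hg)) (inv_mem hcSA.1)
      have h2 : t' * c * t'⁻¹ * c⁻¹ ∈ O := by
        rw [← QuotientGroup.eq_one_iff]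
        rw [QuotientGroup.mk_mul, QuotientGroup.mk_mul, QuotientGroup.mk_mul, QuotientGroup.mk_inv,
          QuotientGroup.mk_inv, ht'z]
        have h3 := hzc (c : G ⧸ O)
        rw [mul_inv_eq_iff_eq_mul] at h3
        rw [← h3, mul_inv_cancel_right, mul_inv_cancel]
      have h3 := odd_of_mem hOodd h2
      obtain ⟨k, hk⟩ := S.isPGroup' ⟨_, h1⟩
      have hk' : (t' * c * t'⁻¹ * c⁻¹) ^ 2 ^ k = 1 := congrArg Subtype.val hk
      have h4 := orderOf_dvd_of_pow_eq_one hk'
      obtain ⟨m, -, hm⟩ := (Nat.dvd_prime_pow Nat.prime_two).1 h4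
      rw [hm] at h3
      rcases Nat.eq_zero_or_pos m with h5 | h5
      · rw [h5, pow_zero] at hm; exact orderOf_eq_one_iff.1 hm
      · exact absurd h3 (by rw [Nat.not_odd_iff_even]; exact Nat.even_pow.2 ⟨even_two, h5.ne'⟩)
    have hci := H.inv_of' (hSj t' hg) ht'A hcSA.2
    rw [hci] at hcomm
    -- `c⁻¹ * c⁻¹ = 1`
    have hcc : c * c = 1 := by
      have := congrArg (fun w => w⁻¹) hcomm
      simpa [mul_inv_rev] using this
    rcases H.uniq c hcSA.2 hcc with h | h
    · exact hcG (by rw [h]; exact one_mem _)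
    · exact hcG (by rw [h]; exact hjG)
  have HQ := H.quo hOodd
  refine ⟨O, hOn, hOodd, F, iF, jF, h3, Or.inr ?_⟩
  refine pgl_of_index_two M hMi h3 hFodd (e1.symm.trans e0) hcent HQ.hab HQ.t1 HQ.tt ?_ HQ.xx ?_ HQ.ct
  · intro w hw w1 ww
    exact (HQ.uniq w hw ww).resolve_left w1
  · intro a ha
    have h1 := HQ.inv a ha
    rwa [HQ.x_inv] at h1

end Cfsg.Agent.GWP
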