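import Cfsg.Agent.GWP.AsTB
import Cfsg.Agent.GWP.LPrime

set_option autoImplicit false
set_option linter.unusedSectionVars false

/-! S3322 (T) (helper76; (L') helper40). -/

namespace Cfsg.Agent.GWP
open Subgroup
universe u

theorem asT {G : Type u} [Group G] [Finite G] (hns : ¬ Group.IsSolvable G) {A : Subgroup G} {x : G}
    (hab : ∀ a ∈ A, ∀ b ∈ A, a * b = b * a) (xA : x ∉ A) (xx : x * x = 1)
    (hinv : ∀ a ∈ A, x * a * x⁻¹ = a⁻¹)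
    (hct : ∀ e ∈ A, e ≠ 1 → e * e = 1 → ∀ g : G, g * e = e * g → g ∈ A ∨ g * x ∈ A)
    {e f a₀ : G} (he : e ∈ A) (he1 : e ≠ 1) (he2 : e * e = 1) (hf : f ∈ A) (hf1 : f ≠ 1)
    (hf2 : f * f = 1) (hef : e ≠ f) (ha : a₀ ∈ A) (ha2 : a₀ * a₀ ≠ 1) :
    ∃ (N : Subgroup G) (_ : N.Normal), (∃ m : ℕ, Odd m ∧ Nat.card ↥N = 2 * m) ∧
      ∃ (F : Type) (_ : Field F) (_ : Fintype F), 3 < Fintype.card F ∧
        Nonempty (G ⧸ N ≃* Matrix.ProjectiveSpecialLinearGroup (Fin 2) F) :=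
  T.asT_of (fun Q _ _ M _ F _ _ _ h4 e P x hx => lprime h4 e P hx) hns
    (T.TS.mk hab xA xx hinv hct he he1 he2 hf hf1 hf2 hef ha ha2 : T.TS A x e f a₀)

end Cfsg.Agent.GWP
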