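import Cfsg.Agent.GWP.AsTA
import Cfsg.Agent.H40.EvenL
import Cfsg.Agent.Dk.MinSimple

set_option autoImplicit false
set_option linter.unusedSectionVars false

/-! S3322 (T): conclusion modulo (L') (helper76). -/

namespace Cfsg.Agent.GWP.T
open Subgroup
universe u

/-- the statement of (L') -/
def LP : Prop := ∀ (Q : Type u) [Group Q] [Finite Q] (M : Subgroup Q) [M.Normal] (F : Type) [Field F]
  [Fintype F] [CharP F 2] (_ : 4 ≤ Fintype.card F)
  (_ : M ≃* Matrix.ProjectiveSpecialLinearGroup (Fin 2) F) (P : Sylow 2 M) (x : Q)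
  (_ : ∀ p ∈ (P : Subgroup M), x * (p : Q) = (p : Q) * x), ∃ s ∈ (P : Subgroup M),
    ∀ m ∈ M, (x * (s : Q)⁻¹) * m = m * (x * (s : Q)⁻¹)

theorem psl_sq {F : Type*} [Field F] [CharP F 2] {k : ℕ}
    {x : Matrix.ProjectiveSpecialLinearGroup (Fin 2) F} (hx : x ^ (2 ^ k) = 1) : x * x = 1 := by
  obtain ⟨e⟩ := BS.sl2_equiv_psl2 F
  have h1 : (e.symm x) ^ 2 ^ k = 1 := by rw [← map_pow, hx, map_one]
  have h2 := H40.EvenL.two_elt k _ h1
  have h3 := congrArg e h2
  rwa [map_mul, e.apply_symm_apply, map_one] at h3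

theorem psl_center {F : Type*} [Field F] [Fintype F] (h4 : 4 ≤ Fintype.card F)
    {c : Matrix.ProjectiveSpecialLinearGroup (Fin 2) F} (hc : ∀ m, c * m = m * c) : c = 1 := by
  have := Matrix.ProjectiveSpecialLinearGroup.rank_two_simple (F := F)
    (by rw [Nat.card_eq_fintype_card]; exact h4)
  have hmem : c ∈ center (Matrix.ProjectiveSpecialLinearGroup (Fin 2) F) :=
    mem_center_iff.2 (fun m => (hc m).symm)
  rcases (inferInstance :
    (center (Matrix.ProjectiveSpecialLinearGroup (Fin 2) F)).Normal).eq_bot_or_eq_top with h | h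
  · rw [h] at hmem; exact hmem
  · exfalso
    apply Dk.psl_not_comm (k := F)
    intro a b
    have h1 : a ∈ center (Matrix.ProjectiveSpecialLinearGroup (Fin 2) F) := by rw [h]; trivial
    exact (mem_center_iff.1 h1 b).symm

theorem exists_c (hL : LP.{u}) {Q : Type u} [Group Q] [Finite Q] {M : Subgroup Q} [M.Normal]
    (hi : M.index = 2) {F : Type} [Field F] [Fintype F] [CharP F 2] (h4 : 4 ≤ Fintype.card F)
    (e : M ≃* Matrix.ProjectiveSpecialLinearGroup (Fin 2) F) (P : Sylow 2 M) {x : Q} (hxM : x ∉ M)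
    (hx : ∀ p ∈ (P : Subgroup M), x * (p : Q) = (p : Q) * x) :
    ∃ c : Q, c ∉ M ∧ c * c = 1 ∧ ∀ q, c * q = q * c := by
  obtain ⟨s, hs, h⟩ := hL Q M F h4 e P x hx
  set c := x * (s : Q)⁻¹ with hc
  have hcM : c ∉ M := by
    intro h1
    apply hxM
    have h2 := mul_mem h1 s.2
    rwa [hc, inv_mul_cancel_right] at h2
  have hall : ∀ q, c * q = q * c := by
    intro q
    by_cases hq : q ∈ M
    · exact h q hq
    · have h1 : c⁻¹ * q ∈ M := by
        rw [mul_mem_iff_of_index_two hi]
        exact ⟨fun h2 => absurd ((inv_mem_iff).1 h2) hcM, fun h2 => absurd h2 hq⟩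
      have h2 := h _ h1
      calc c * q = c * (c * (c⁻¹ * q)) := by group
        _ = c * ((c⁻¹ * q) * c) := by rw [h2]
        _ = q * c := by group
  have hcc : c * c ∈ M := by
    rw [mul_mem_iff_of_index_two hi]
  have h2 : (⟨c * c, hcc⟩ : M) = 1 := by
    apply e.injective
    rw [map_one]
    apply psl_center h4
    intro m
    obtain ⟨m, rfl⟩ := e.surjective m
    rw [← map_mul, ← map_mul]
    congr 1
    apply Subtype.ext
    change c * c * (m : Q) = m * (c * c)
    rw [mul_assoc, hall m, ← mul_assoc, hall m, mul_assoc]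
  exact ⟨c, hcM, congrArg Subtype.val h2, hall⟩

/-- a Sylow 2-subgroup inside a subgroup of odd index -/
theorem exists_sylow_le {M : Type u} [Group M] [Finite M] {B : Subgroup M} (hB : Odd B.index) :
    ∃ P : Sylow 2 M, (P : Subgroup M) ≤ B := by
  have : Fact (Nat.Prime 2) := ⟨Nat.prime_two⟩
  obtain ⟨R⟩ : Nonempty (Sylow 2 B) := inferInstance
  have h1 : IsPGroup 2 ((R : Subgroup B).map B.subtype) := R.2.map _
  have h2 : ¬ 2 ∣ ((R : Subgroup B).map B.subtype).index := by
    rw [index_map_subtype]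
    intro h
    rcases (Nat.Prime.dvd_mul Nat.prime_two).1 h with h3 | h3
    · exact R.not_dvd_index h3
    · exact (Nat.not_even_iff_odd.2 hB) (even_iff_two_dvd.2 h3)
  refine ⟨h1.toSylow h2, ?_⟩
  change (R : Subgroup B).map B.subtype ≤ B
  exact map_subtype_le _

theorem fin {G : Type u} [Group G] [Finite G] {O : Subgroup G} [O.Normal] (hO : Odd (Nat.card O))
    {M : Subgroup (G ⧸ O)} (hi : M.index = 2) {F : Type} [Field F]
    (e : M ≃* Matrix.ProjectiveSpecialLinearGroup (Fin 2) F) {c : G ⧸ O} (hcM : c ∉ M)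
    (hcc : c * c = 1) (hall : ∀ q, c * q = q * c) :
    ∃ (N : Subgroup G) (_ : N.Normal), (∃ m : ℕ, Odd m ∧ Nat.card ↥N = 2 * m) ∧
      Nonempty (G ⧸ N ≃* Matrix.ProjectiveSpecialLinearGroup (Fin 2) F) := by
  have hc1 : c ≠ 1 := fun h => hcM (h ▸ one_mem M)
  have hoc : orderOf c = 2 := orderOf_eq_prime (by rw [pow_two, hcc]) hc1
  have hmemZ : ∀ z ∈ zpowers c, z = 1 ∨ z = c := by
    intro z hz
    obtain ⟨j, rfl⟩ := mem_zpowers_iff.1 hz
    rcases Int.even_or_odd j with ⟨i, hi⟩ | ⟨i, hi⟩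
    · left
      rw [hi, ← two_mul, zpow_mul, zpow_ofNat, pow_two, hcc, one_zpow]
    · right
      rw [hi, zpow_add, zpow_mul, zpow_ofNat, pow_two, hcc, one_zpow, one_mul, zpow_one]
  have hZn : (zpowers c).Normal := by
    constructor
    intro n hn g
    rcases hmemZ n hn with h | h
    · rw [h]; simp
    · rw [h, ← hall g, mul_inv_cancel_right]; exact mem_zpowers c
  let π : G →* (G ⧸ O) ⧸ zpowers c := (QuotientGroup.mk' (zpowers c)).comp (QuotientGroup.mk' O)
  have hπ : Function.Surjective π :=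
    (QuotientGroup.mk'_surjective _).comp (QuotientGroup.mk'_surjective _)
  have hker : π.ker = (zpowers c).comap (QuotientGroup.mk' O) := by
    ext g
    rw [MonoidHom.mem_ker, mem_comap]
    exact QuotientGroup.eq_one_iff _
  let f : M →* (G ⧸ O) ⧸ zpowers c := (QuotientGroup.mk' (zpowers c)).comp M.subtype
  have hf : Function.Bijective f := by
    constructor
    · rw [injective_iff_map_eq_one]
      intro m hm
      have h1 : (m : G ⧸ O) ∈ zpowers c := (QuotientGroup.eq_one_iff _).1 hm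
      rcases hmemZ _ h1 with h2 | h2
      · exact Subtype.ext h2
      · exact absurd (h2 ▸ m.2) hcM
    · intro z
      obtain ⟨q, rfl⟩ := QuotientGroup.mk'_surjective _ z
      by_cases hq : q ∈ M
      · exact ⟨⟨q, hq⟩, rfl⟩
      · have h1 : q * c ∈ M := by
          rw [mul_mem_iff_of_index_two hi]
          exact ⟨fun h2 => absurd h2 hq, fun h2 => absurd h2 hcM⟩
        refine ⟨⟨q * c, h1⟩, ?_⟩
        change (QuotientGroup.mk' (zpowers c)) (q * c) = (QuotientGroup.mk' (zpowers c)) q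
        rw [map_mul]
        have h2 : (QuotientGroup.mk' (zpowers c)) c = 1 := (QuotientGroup.eq_one_iff c).2 (mem_zpowers c)
        rw [h2, mul_one]
  refine ⟨π.ker, inferInstance, ⟨Nat.card O, hO, ?_⟩, ⟨?_⟩⟩
  · have h1 : π.ker.index = (zpowers c).index := by
      rw [hker]
      exact index_comap_of_surjective _ (QuotientGroup.mk'_surjective _)
    have h2 := card_mul_index π.ker
    have h3 := card_mul_index O
    have h4 := card_mul_index (zpowers c)
    have h5 : Nat.card (G ⧸ O) = O.index := rfl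
    rw [Nat.card_zpowers, hoc, h5] at h4
    rw [h1, ← h3, ← h4] at h2
    have h6 : 0 < (zpowers c).index := Nat.pos_of_ne_zero index_ne_zero_of_finite
    apply Nat.eq_of_mul_eq_mul_right h6
    rw [h2]; ring
  · exact (QuotientGroup.quotientKerEquivOfSurjective π hπ).trans ((MulEquiv.ofBijective f hf).symm.trans e)

theorem asT_of (hL : LP.{u}) {G : Type u} [Group G] [Finite G] (hns : ¬ Group.IsSolvable G)
    {A : Subgroup G} {x e f a₀ : G} (T : TS A x e f a₀) :
    ∃ (N : Subgroup G) (_ : N.Normal), (∃ m : ℕ, Odd m ∧ Nat.card ↥N = 2 * m) ∧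
      ∃ (F : Type) (_ : Field F) (_ : Fintype F), 3 < Fintype.card F ∧
        Nonempty (G ⧸ N ≃* Matrix.ProjectiveSpecialLinearGroup (Fin 2) F) := by
  have : Fact (Nat.Prime 2) := ⟨Nat.prime_two⟩
  obtain ⟨G₀, hN, hi, hxG, hAG⟩ := T.exists_G0
  have hns0 : ¬ Group.IsSolvable G₀ := by
    intro hs
    apply hns
    have : Group.IsSolvable (G ⧸ G₀) := by
      have h1 : Nat.card (G ⧸ G₀) = 2 := hi
      have := isCyclic_of_prime_card h1
      have : CommGroup (G ⧸ G₀) := IsCyclic.commGroup
      infer_instance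
    exact Group.isSolvable_of_ker_le_range G₀.subtype (QuotientGroup.mk' G₀)
      (by rw [QuotientGroup.ker_mk', range_subtype])
  obtain ⟨F, i1, i2, i3, h4, ⟨ε⟩⟩ := H40.EvenL.main (A.subgroupOf G₀)
    (fun a ha b hb => Subtype.ext (T.hab a ha b hb))
    (fun c hc hc1 hcc g hg => by
      have h1 := T.hct c hc (fun h => hc1 (Subtype.ext h)) (congrArg Subtype.val hcc) g
        (congrArg Subtype.val hg)
      rcases h1 with h1 | h1
      · exact h1
      · exfalso
        apply hxG
        have h2 : x = (g : G)⁻¹ * ((g : G) * x) := by group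
        rw [h2]
        exact mul_mem (inv_mem g.2) (hAG h1))
    (e := ⟨e, hAG T.he⟩) (f := ⟨f, hAG T.hf⟩) T.he (fun h => T.he1 (congrArg Subtype.val h))
    (Subtype.ext T.he2) T.hf (fun h => T.hf1 (congrArg Subtype.val h)) (Subtype.ext T.hf2)
    (fun h => T.hef (congrArg Subtype.val h)) hns0
  set O₀ := Cfsg.pPrimeCore 2 G₀ with hO₀
  set O : Subgroup G := O₀.map G₀.subtype with hOdef
  have hOn : O.Normal := by
    have : O₀.Characteristic := Solv.pPrimeCore_characteristic 2
    infer_instance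
  have hOodd : Odd (Nat.card O) := by
    have h1 : (Nat.card O₀).Coprime 2 := Solv.pPrimeCore_card_coprime 2
    rw [hOdef, card_map_of_injective (subtype_injective _)]
    exact Nat.coprime_two_right.1 h1
  have hOG : O ≤ G₀ := map_subtype_le _
  set M : Subgroup (G ⧸ O) := G₀.map (QuotientGroup.mk' O) with hM
  have hMn : M.Normal := hN.map _ (QuotientGroup.mk'_surjective _)
  have hcomap : M.comap (QuotientGroup.mk' O) = G₀ := by
    rw [hM, comap_map_eq, QuotientGroup.ker_mk', sup_eq_left.2 hOG]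
  have hMi : M.index = 2 := by
    rw [← index_comap_of_surjective M (QuotientGroup.mk'_surjective O), hcomap, hi]
  have hxM : (x : G ⧸ O) ∉ M := by
    intro h
    apply hxG
    rw [← hcomap]
    exact h
  let φ : G₀ →* M := (QuotientGroup.mk' O).subgroupMap G₀
  have hφs : Function.Surjective φ := (QuotientGroup.mk' O).subgroupMap_surjective G₀
  have hφk : φ.ker = O₀ := by
    ext g
    rw [MonoidHom.mem_ker]
    constructor
    · intro h
      have h1 : ((g : G) : G ⧸ O) = 1 := congrArg Subtype.val h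
      obtain ⟨y, hy, hyg⟩ := (QuotientGroup.eq_one_iff (g : G)).1 h1
      have : y = g := Subtype.ext hyg
      exact this ▸ hy
    · intro h
      apply Subtype.ext
      exact (QuotientGroup.eq_one_iff (g : G)).2 ⟨g, h, rfl⟩
  let eM : G₀ ⧸ O₀ ≃* M := (QuotientGroup.quotientMulEquivOfEq hφk.symm).trans
    (QuotientGroup.quotientKerEquivOfSurjective φ hφs)
  let e' : M ≃* Matrix.ProjectiveSpecialLinearGroup (Fin 2) F := eM.symm.trans ε
  -- the index of `A` in `G₀`
  have hodd : Odd (A.subgroupOf G₀).index := by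
    set H := centralizer ({e} : Set G) with hH
    have hAH : A ≤ H := fun a ha => T.mem_H.2 (Or.inl ha)
    have h1 := relIndex_mul_index hAG
    have h2 := relIndex_mul_index hAH
    have h3 : A.relIndex H = G₀.relIndex H := by
      rw [← inf_relIndex_right A H, ← inf_relIndex_right G₀ H]
      congr 1
      ext g
      rw [mem_inf, mem_inf]
      constructor
      · rintro ⟨h, h'⟩; exact ⟨hAG h, h'⟩
      · rintro ⟨h, h'⟩
        refine ⟨?_, h'⟩
        rcases T.mem_H.1 h' with h5 | h5
        · exact h5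
        · exfalso
          apply hxG
          have h6 : x = (g : G)⁻¹ * ((g : G) * x) := by group
          rw [h6]
          exact mul_mem (inv_mem h) (hAG h5)
    have h5 : A.relIndex H ∣ 2 := by
      rw [h3, ← hi]
      exact relIndex_dvd_index_of_normal G₀ H
    have h6 : Odd H.index := T.centE
    change Odd (A.relIndex G₀)
    rw [hi] at h1
    rcases (Nat.dvd_prime Nat.prime_two).1 h5 with h7 | h7
    · exfalso
      rw [h7, one_mul] at h2
      rw [h2, ← h1] at h6
      exact (Nat.not_even_iff_odd.2 h6) (Even.mul_left even_two _)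
    · have h8 : A.relIndex G₀ * 2 = H.index * 2 := by rw [h1, ← h2, h7, mul_comm]
      rw [Nat.eq_of_mul_eq_mul_right (by norm_num) h8]
      exact h6
  have hBodd : Odd ((A.subgroupOf G₀).map φ).index := by
    have h1 := index_map_dvd (A.subgroupOf G₀) hφs
    obtain ⟨k, hk⟩ := h1
    rw [hk] at hodd
    exact (Nat.odd_mul.1 hodd).1
  obtain ⟨P, hP⟩ := exists_sylow_le hBodd
  have hxP : ∀ p ∈ (P : Subgroup M), (x : G ⧸ O) * (p : G ⧸ O) = (p : G ⧸ O) * (x : G ⧸ O) := by
    intro p hp
    obtain ⟨a, ha, hap⟩ := hP hp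
    obtain ⟨k, hk⟩ := P.2 ⟨p, hp⟩
    have hk' : p ^ 2 ^ k = 1 := congrArg Subtype.val hk
    have h1 : e' p * e' p = 1 := psl_sq (k := k) (by rw [← map_pow, hk', map_one])
    have h2 : p * p = 1 := by
      apply e'.injective
      rw [map_mul, h1, map_one]
    have h3 : (p : G ⧸ O) * p = 1 := congrArg Subtype.val h2
    have h4 : (p : G ⧸ O) = ((a : G) : G ⧸ O) := by rw [← hap]; rfl
    have ha' : (a : G) ∈ A := ha
    have h5 : ((x * (a : G) : G) : G ⧸ O) = (((a : G)⁻¹ * x : G) : G ⧸ O) := by rw [T.xa ha']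
    rw [QuotientGroup.mk_mul, QuotientGroup.mk_mul, QuotientGroup.mk_inv, ← h4,
      inv_eq_of_mul_eq_one_left h3] at h5
    exact h5
  obtain ⟨c, hcM, hcc, hall⟩ := exists_c hL hMi h4 e' P hxM hxP
  obtain ⟨N, hNn, hNc, ⟨g⟩⟩ := fin hOodd hMi e' hcM hcc hall
  exact ⟨N, hNn, hNc, F, i1, i2, by omega, ⟨g⟩⟩

end Cfsg.Agent.GWP.T
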