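import Cfsg.Agent.GWP.LastA
import Cfsg.Agent.GWP.QG
import Cfsg.Agent.GWP.Fin
import Cfsg.Agent.GWP.OddN

set_option autoImplicit false
set_option linter.unusedSectionVars false

/-! The last step: no `T q u v` is a nontrivial `q`-group. -/

namespace Cfsg.Agent.GWP
open Subgroup Cfsg
open Cfsg.Agent.BG (pCoreOf)
open scoped commutatorElement Pointwise
universe u
variable {G : Type u} [Group G] [Finite G]

theorem comm_bot_conj (hP : PP G) {q : ℕ} {R : Subgroup G} {g s t : G} (hg : g ∈ normalizer (R : Set G))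
    (t1 : t ≠ 1) (tt : t * t = 1) (hst : g * s * g⁻¹ = t)
    (h : (⁅R, Kq q s⁆ : Subgroup G) = ⊥) : (⁅R, Kq q t⁆ : Subgroup G) = ⊥ := by
  rw [← le_bot_iff, commutator_le]
  intro x hx y hy
  have h1 : g⁻¹ * x * g ∈ R := by
    have := (mem_normalizer_iff.1 (inv_mem hg) x).1 hx
    rwa [inv_inv] at this
  have h2 : g⁻¹ * y * g ∈ Kq q s := by
    have h3 := Kq_conj hP g⁻¹ t t1 tt hy
    have h4 : g⁻¹ * t * g⁻¹⁻¹ = s := by rw [← hst]; group
    rw [h4, inv_inv] at h3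
    exact h3
  have h3 : ⁅g⁻¹ * x * g, g⁻¹ * y * g⁆ ∈ (⁅R, Kq q s⁆ : Subgroup G) := commutator_mem_commutator h1 h2
  rw [h, Subgroup.mem_bot] at h3
  have h5 : ⁅x, y⁆ = g * ⁅g⁻¹ * x * g, g⁻¹ * y * g⁆ * g⁻¹ := by
    simp only [commutatorElement_def]; group
  rw [h5, h3, Subgroup.mem_bot]; group

theorem no_T [IsSimpleGroup G] (hG : Core G) {u v : G} (F : Four u v) {q : ℕ} [Fact q.Prime] (hq : q ≠ 2)
    (hT : IsPGroup q (T q u v)) (h1 : Kq q u ≠ ⊥) : False := by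
  have hP := hG.pp
  have hTI : Inv u v (T q u v) := TI.Inv_of_norm (TI.u_mem_norm hP F) (TI.v_mem_norm hP F)
  have hTo := odd_of_pgroup hq hT
  have hTab := t_ab hG F hq hT h1
  have hKne : ∀ (p : ℕ) {s t : G}, s ≠ 1 → s * s = 1 → t ≠ 1 → t * t = 1 → Kq p s ≠ ⊥ → Kq p t ≠ ⊥ := by
    intro p s t s1 ss t1 tt h h'
    have h2 := TI.card_Kq_eq hG p s1 ss t1 tt
    rw [h', Subgroup.card_bot] at h2
    exact h (Subgroup.card_eq_one.1 h2)
  have hKqu : Kq q u ≤ K u := Kq_le hP F.u1 F.uu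
  obtain ⟨hN1, hN2⟩ := ny hP F hKqu h1
  have huN : u ∈ normalizer (Kq q u : Set G) := Inv.mem_normalizer F.uu (Inv_of_le hP F hKqu).1
  have hvN : v ∈ normalizer (Kq q u : Set G) := Inv.mem_normalizer F.vv (Inv_of_le hP F hKqu).2
  set Y := OO (normalizer (Kq q u : Set G)) with hY
  have hYo : Odd (Nat.card Y) := OO_odd hN1
  have hYI : Inv u v Y := Inv_OO F (Inv_of_le hP F hKqu)
  have hTY : T q u v ≤ Y := fun x hx =>
    mem_OO_of_comm (fun y hy => hTab x hx y (TI.Kq_le_T1 q u v hy)) (odd_of_mem hTo hx)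
  have hKY : K u ≤ Y := fun x hx =>
    mem_OO_of_comm (fun y hy => K_comm hP F.u1 F.uu hx (hKqu hy)) ((mem_K hP F.u1 F.uu).1 hx).2
  have hcY : CF Y := cf_of_inv hP F hYo hYI
  have hmax := T_max hP F hq hT hYo hYI hTY hTI
  have hTne : T q u v ≠ ⊥ := fun h => h1 (le_bot_iff.1 ((TI.Kq_le_T1 q u v).trans h.le))
  by_cases hn : Y ≤ normalizer (T q u v : Set G)
  · exact tw hG F hq hq hT hT hTne hTo (fun g hg => hg.1) (hKY.trans hn)
  obtain ⟨r, hr, hrq, hrn⟩ := exists_r hcY hmax hn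
  haveI := Fact.mk hr
  set R0 := BG.pCoreOf r Y with hR0
  have hR0r : IsPGroup r R0 := BG.pCoreOf_isPGroup r Y
  have hR0Y : R0 ≤ Y := BG.pCoreOf_le r Y
  have hR0ne : R0 ≠ ⊥ := by
    intro h; apply hrn; rw [h]; exact bot_le
  have hr2 : r ≠ 2 := by
    intro h
    apply hR0ne
    obtain ⟨n, hn'⟩ := IsPGroup.iff_card.1 hR0r
    have h2 : Odd (Nat.card R0) := Odd.of_dvd_nat hYo (Subgroup.card_dvd_of_le hR0Y)
    rw [hn', h] at h2
    rcases Nat.eq_zero_or_pos n with h3 | h3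
    · rw [h3, pow_zero] at hn'; exact Subgroup.card_eq_one.1 hn'
    · exact absurd h2 (by rw [Nat.not_odd_iff_even]; exact Nat.even_pow.2 ⟨even_two, h3.ne'⟩)
  have hNR0 := BG.normalizer_le_normalizer_pCoreOf r Y
  have hR0I : Inv u v R0 := TI.Inv_of_norm (hNR0 (Inv.mem_normalizer F.uu hYI.1))
    (hNR0 (Inv.mem_normalizer F.vv hYI.2))
  have hTR0 : T q u v ≤ normalizer (R0 : Set G) := hTY.trans (le_normalizer.trans hNR0)
  have hR0K : ¬ R0 ≤ K u := by
    intro h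
    have h3 := (ny hP F h hR0ne).2
    apply hrn
    intro x hx
    apply mem_normalizer_of_comm
    intro y hy
    exact (h3 y (hTR0 hy) (odd_of_mem hTo hy) x hx).symm
  have hKru : Kq r u ≤ K u := Kq_le hP F.u1 F.uu
  obtain ⟨S, hSL, hSr, hSI, hS1, hS2⟩ := join hP F hN1 huN hvN hr2 (P := Kq r u) (R := R0)
    (hKru.trans (hKY.trans OO_le)) (hR0Y.trans OO_le) (Kq_pgroup hP F.u1 F.uu) hR0r (Inv_of_le hP F hKru) hR0I
  have hSK : ¬ S ≤ Kq r u := fun h => hR0K (hS2.trans (h.trans hKru))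
  obtain ⟨z, hz1, hzN, hz⟩ := exists_of_lt hP F hr2 hSr hSI hS1 hSK
  have hzodd : Odd (orderOf z) := by
    rcases hz with hz | hz
    · exact ((mem_K hP F.v1 F.vv).1 (Kq_le hP F.v1 F.vv hz)).2
    · exact ((mem_K hP F.w1 F.ww).1 (Kq_le hP F.w1 F.ww hz)).2
  have hzc : ∀ a ∈ Kq r u, a * z = z * a := by
    intro a ha
    by_cases hb : Kq r u = ⊥
    · rw [hb, Subgroup.mem_bot] at ha
      rw [ha, one_mul, mul_one]
    · exact ((ny hP F hKru hb).2 z hzN hzodd a ha).symm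
  have hTr : IsPGroup r (T r u v) := by
    rcases hz with hz | hz
    · exact tq hG F hr2 hz hz1 hzc
    · have h3 := tq hG F.f2 hr2 hz hz1 hzc
      have h4 : T r u (u * v) = T r u v := by
        rw [T, T, F.uw, sup_right_comm]
      rwa [h4] at h3
  have hrne : Kq r u ≠ ⊥ := by
    rcases hz with hz | hz
    · refine hKne r F.v1 F.vv F.u1 F.uu (fun h => hz1 ?_)
      rw [h, Subgroup.mem_bot] at hz; exact hz
    · refine hKne r F.w1 F.ww F.u1 F.uu (fun h => hz1 ?_)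
      rw [h, Subgroup.mem_bot] at hz; exact hz
  have hTrab := t_ab hG F hr2 hTr hrne
  set SS : Set (Subgroup G) := {P | P ≤ T r u v ∧ T q u v ≤ normalizer (P : Set G)} with hSS
  set R : Subgroup G := sSup SS with hR
  have hRle : R ≤ T r u v := sSup_le fun P hP' => hP'.1
  have hRN : ∀ g, g ∈ normalizer (T q u v : Set G) → g ∈ normalizer (T r u v : Set G) →
      g ∈ normalizer (R : Set G) := by
    intro g hgq hgr
    apply TI.T_norm_of_le
    have h3 : R ≤ R.comap (MulAut.conj g).toMonoidHom := by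
      refine sSup_le fun P hP' => ?_
      rw [← Subgroup.map_le_iff_le_comap]
      apply le_sSup
      refine ⟨?_, ?_⟩
      · rintro _ ⟨x, hx, rfl⟩
        exact (mem_normalizer_iff.1 hgr x).1 (hP'.1 hx)
      · intro t ht
        apply TI.T_norm_of_le
        rintro _ ⟨x, hx, rfl⟩
        have h4 : g⁻¹ * t * g ∈ T q u v := by
          have := (mem_normalizer_iff.1 (inv_mem hgq) t).1 ht
          rwa [inv_inv] at this
        refine ⟨(g⁻¹ * t * g) * x * (g⁻¹ * t * g)⁻¹, (mem_normalizer_iff.1 (hP'.2 h4) x).1 hx, ?_⟩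
        simp only [MulEquiv.toMonoidHom_eq_coe, MonoidHom.coe_coe, MulAut.conj_apply]
        group
    exact fun x hx => h3 hx
  have hTR : T q u v ≤ normalizer (R : Set G) := by
    intro t ht
    apply TI.T_norm_of_le
    have h3 : R ≤ R.comap (MulAut.conj t).toMonoidHom := by
      refine sSup_le fun P hP' x hx => ?_
      exact (le_sSup hP' : P ≤ R) ((mem_normalizer_iff.1 (hP'.2 ht) x).1 hx)
    exact fun x hx => h3 hx
  have hRI : Inv u v R := TI.Inv_of_norm (hRN u (TI.u_mem_norm hP F) (TI.u_mem_norm hP F))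
    (hRN v (TI.v_mem_norm hP F) (TI.v_mem_norm hP F))
  have D : DD q r u v (T q u v) R :=
    { F := F
      q2 := hq
      r2 := hr2
      qr := hrq.symm
      Tq := hT
      Rr := hTr.to_le hRle
      Tab := hTab
      Rab := fun x hx y hy => hTrab x (hRle hx) y (hRle hy)
      TR := hTR
      ka := TI.Kq_le_T1 q u v
      kb := TI.Kq_le_T2 q u v
      kw := TI.Kq_le_T3 q u v
      TI := hTI
      RI := hRI
      Rmax := fun P h2 h3 h4 => le_sSup (show P ∈ SS from ⟨le_T hP hr2 F h2 h3, h4⟩)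
      na := h1
      nb := hKne q F.u1 F.uu F.v1 F.vv h1
      nw := hKne q F.u1 F.uu F.w1 F.ww h1 }
  have hWne : (⁅R, T q u v⁆ : Subgroup G) ≠ ⊥ := by
    intro h
    apply hrn
    intro x hx
    apply mem_normalizer_of_comm
    intro y hy
    have hxR : x ∈ R := D.Rmax R0 hR0r hR0I hTR0 hx
    have h3 : ⁅x, y⁆ ∈ (⁅R, T q u v⁆ : Subgroup G) := commutator_mem_commutator hxR hy
    rw [h, Subgroup.mem_bot, commutatorElement_eq_one_iff_mul_comm] at h3
    exact h3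
  have h8 := D.L8 le_rfl
  obtain ⟨ρ, hρu, hρv⟩ := rho hG F
  have hρw : ρ * (u * v) * ρ⁻¹ = u := by
    have : ρ * (u * v) * ρ⁻¹ = (ρ * u * ρ⁻¹) * (ρ * v * ρ⁻¹) := by group
    rw [this, hρu, hρv, F.vw]
  have hρN : ∀ p : ℕ, ρ ∈ normalizer (T p u v : Set G) := fun p =>
    T_conj hP F (Or.inr (Or.inl hρu)) (Or.inr (Or.inr hρv))
  have hρR := hRN ρ (hρN q) (hρN r)
  have hEv : (⁅R, Kq q v⁆ : Subgroup G) ≠ ⊥ := by
    intro h
    have hw := comm_bot_conj hP hρR F.w1 F.ww hρv h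
    have hu := comm_bot_conj hP hρR F.u1 F.uu hρw hw
    apply hWne
    rw [h8, h, hw, hu, bot_sup_eq, bot_sup_eq]
  have hK1 : K u ≤ normalizer ((⁅R, Kq q u⁆ : Subgroup G) : Set G) :=
    D.L6 hP (fun {_ _} F' {_} h2 h3 h4 h5 => oddNil_normalizer hP F' h2 h3 h4 h5) hEv
  have hK2 : K u ≤ normalizer ((⁅R, Kq q v⁆ : Subgroup G) : Set G) := D.symm.L5 hP
  have hK3 : K u ≤ normalizer ((⁅R, Kq q (u * v)⁆ : Subgroup G) : Set G) := D.rot.symm.L5 hP
  refine tw hG F hq hr2 hT hTr hWne ?_ ?_ ?_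
  · exact D.odd_le (D.E_le le_rfl)
  · intro g hg
    exact normalizer_le_commutator R _ (hRN g hg.1 hg.2) hg.1
  · intro x hx
    rw [h8]
    exact norm_sup (norm_sup (hK1 hx) (hK2 hx)) (hK3 hx)

theorem no_pi [IsSimpleGroup G] (hG : Core G) {u v : G} (F : Four u v) {q : ℕ} [Fact q.Prime] (hq : q ≠ 2)
    {y : G} (hy : y ∈ Kq q v) (hyc : ∀ a ∈ Kq q u, a * y = y * a) : y = 1 := by
  by_contra hy1
  have hT := tq hG F hq hy hy1 hyc
  refine no_T hG F hq hT ?_
  intro h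
  have h2 := TI.card_Kq_eq hG q F.u1 F.uu F.v1 F.vv
  rw [h, Subgroup.card_bot] at h2
  have h3 : Kq q v = ⊥ := Subgroup.card_eq_one.1 h2.symm
  rw [h3, Subgroup.mem_bot] at hy
  exact hy1 hy

end Cfsg.Agent.GWP
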