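import Cfsg.Agent.GWP.Ab
import Cfsg.Agent.H31.Avg

set_option autoImplicit false
set_option linter.unusedSectionVars false

/-! The subgroups `E_t = [R, A_t]`. -/

namespace Cfsg.Agent.GWP
open Subgroup Cfsg
open Cfsg.Agent.BG (pCoreOf)
open scoped commutatorElement Pointwise
universe u
variable {G : Type u} [Group G] [Finite G]

theorem isMulComm_of {R : Subgroup G} (hR : ∀ a ∈ R, ∀ b ∈ R, a * b = b * a) : IsMulCommutative R :=
  ⟨⟨fun a b => Subtype.ext (hR a a.2 b b.2)⟩⟩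

theorem com_inf {R A : Subgroup G} (hR : ∀ a ∈ R, ∀ b ∈ R, a * b = b * a)
    (hA : A ≤ normalizer (R : Set G)) (hcop : (Nat.card R).Coprime (Nat.card A)) {x : G}
    (hx : x ∈ (⁅R, A⁆ : Subgroup G)) (h : ∀ a ∈ A, a * x = x * a) : x = 1 := by
  have h1 := (H31.abelian_coprime R A (isMulComm_of hR) hA
    (Nat.Coprime.coprime_dvd_right (Subgroup.relIndex_dvd_card _ _) hcop)).1
  have h2 : x ∈ R ⊓ centralizer (A : Set G) ⊓ (⁅R, A⁆ : Subgroup G) :=
    ⟨⟨le_normalizer_iff_commutator_le_left.1 hA hx, mem_centralizer_iff.2 h⟩, hx⟩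
  rwa [h1, Subgroup.mem_bot] at h2

/-- commutators of invariant subgroups are invariant -/
theorem Inv.commutator {a b : G} {X Y : Subgroup G} (F : Four a b) (hX : Inv a b X)
    (hY : Inv a b Y) : Inv a b (⁅X, Y⁆ : Subgroup G) :=
  TI.Inv_of_norm
    (normalizer_le_commutator X Y (Inv.mem_normalizer F.uu hX.1) (Inv.mem_normalizer F.uu hY.1))
    (normalizer_le_commutator X Y (Inv.mem_normalizer F.vv hX.2) (Inv.mem_normalizer F.vv hY.2))

theorem norm_sup {A B : Subgroup G} {g : G} (hA : g ∈ normalizer (A : Set G)) (hB : g ∈ normalizer (B : Set G)) :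
    g ∈ normalizer ((A ⊔ B : Subgroup G) : Set G) := by
  apply TI.T_norm_of_le
  have h : A ⊔ B ≤ (A ⊔ B).comap (MulAut.conj g).toMonoidHom := by
    refine sup_le (fun x hx => ?_) (fun x hx => ?_)
    · exact mem_sup_left ((mem_normalizer_iff.1 hA x).1 hx)
    · exact mem_sup_right ((mem_normalizer_iff.1 hB x).1 hx)
  exact fun x hx => h hx

/-- the configuration of the last step -/
structure DD (q r : ℕ) (a b : G) (T R : Subgroup G) : Prop where
  F : Four a b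
  q2 : q ≠ 2
  r2 : r ≠ 2
  qr : q ≠ r
  Tq : IsPGroup q T
  Rr : IsPGroup r R
  Tab : ∀ x ∈ T, ∀ y ∈ T, x * y = y * x
  Rab : ∀ x ∈ R, ∀ y ∈ R, x * y = y * x
  TR : T ≤ normalizer (R : Set G)
  ka : Kq q a ≤ T
  kb : Kq q b ≤ T
  kw : Kq q (a * b) ≤ T
  TI : Inv a b T
  RI : Inv a b R
  Rmax : ∀ P : Subgroup G, IsPGroup r P → Inv a b P → T ≤ normalizer (P : Set G) → P ≤ R
  na : Kq q a ≠ ⊥
  nb : Kq q b ≠ ⊥
  nw : Kq q (a * b) ≠ ⊥

namespace DD
variable {q r : ℕ} [Fact q.Prime] [Fact r.Prime] {a b : G} {T R : Subgroup G} (D : DD q r a b T R)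
include D

theorem symm : DD q r b a T R :=
  ⟨D.F.symm, D.q2, D.r2, D.qr, D.Tq, D.Rr, D.Tab, D.Rab, D.TR, D.kb, D.ka, by rw [← D.F.comm]; exact D.kw,
    D.TI.symm, D.RI.symm, fun P h1 h2 => D.Rmax P h1 h2.symm, D.nb, D.na, by rw [← D.F.comm]; exact D.nw⟩

theorem rot : DD q r a (a * b) T R :=
  ⟨D.F.f2, D.q2, D.r2, D.qr, D.Tq, D.Rr, D.Tab, D.Rab, D.TR, D.ka, D.kw, by rw [D.F.uw]; exact D.kb,
    ⟨D.TI.1, D.TI.w⟩, ⟨D.RI.1, D.RI.w⟩, fun P h1 h2 => D.Rmax P h1 (by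
      refine ⟨h2.1, fun x hx => ?_⟩
      have h3 := h2.1 _ (h2.2 x hx)
      have : a * (a * b * x * (a * b)⁻¹) * a⁻¹ = b * x * b⁻¹ := by
        have e : a * (a * b * x * (a * b)⁻¹) * a⁻¹ = (a * a) * b * x * b⁻¹ * (a * a)⁻¹ := by group
        rw [e, D.F.uu]; group
      rwa [this] at h3), D.na, D.nw, by rw [D.F.uw]; exact D.nb⟩

theorem coprime_RT : (Nat.card R).Coprime (Nat.card T) := by
  obtain ⟨m, hm⟩ := IsPGroup.iff_card.1 D.Rr
  obtain ⟨n, hn⟩ := IsPGroup.iff_card.1 D.Tq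
  rw [hm, hn]
  exact Nat.Coprime.pow _ _ ((Nat.coprime_primes Fact.out Fact.out).2 D.qr.symm)

theorem cop {X A : Subgroup G} (hX : X ≤ R) (hA : A ≤ T) : (Nat.card X).Coprime (Nat.card A) :=
  Nat.Coprime.coprime_dvd_left (Subgroup.card_dvd_of_le hX)
    (Nat.Coprime.coprime_dvd_right (Subgroup.card_dvd_of_le hA) D.coprime_RT)

theorem E_le {A : Subgroup G} (hA : A ≤ T) : (⁅R, A⁆ : Subgroup G) ≤ R :=
  le_normalizer_iff_commutator_le_left.1 (hA.trans D.TR)

theorem solv {A : Subgroup G} (hA : A ≤ T) : Group.IsSolvable A := by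
  letI : CommGroup A := { (inferInstance : Group A) with
    mul_comm := fun x y => Subtype.ext (D.Tab x (hA x.2) y (hA y.2)) }
  infer_instance

theorem E_E {X A : Subgroup G} (hX : X ≤ R) (hA : A ≤ T) (hAX : A ≤ normalizer (X : Set G)) :
    (⁅(⁅X, A⁆ : Subgroup G), A⁆ : Subgroup G) = ⁅X, A⁆ :=
  Cop.commutator_commutator_eq hAX (D.cop hX hA).symm (Or.inl (D.solv hA))

theorem odd_R : Odd (Nat.card R) := odd_of_pgroup D.r2 D.Rr
theorem odd_T : Odd (Nat.card T) := odd_of_pgroup D.q2 D.Tq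

theorem odd_le {X : Subgroup G} (hX : X ≤ R) : Odd (Nat.card X) :=
  Odd.of_dvd_nat D.odd_R (Subgroup.card_dvd_of_le hX)

theorem Inv_Kq (hP : PP G) : Inv a b (Kq q a) := Inv_of_le hP D.F (Kq_le hP D.F.u1 D.F.uu)

theorem T_norm {A : Subgroup G} (hA : A ≤ T) : T ≤ normalizer (A : Set G) := fun x hx =>
  mem_normalizer_of_comm fun y hy => D.Tab x hx y (hA hy)

theorem T_norm_E {A : Subgroup G} (hA : A ≤ T) : T ≤ normalizer ((⁅R, A⁆ : Subgroup G) : Set G) := fun _ hx =>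
  normalizer_le_commutator R A (D.TR hx) (D.T_norm hA hx)

/-- `E_a ∩ K a = 1` -/
theorem L1 (hP : PP G) {x : G} (hx : x ∈ (⁅R, Kq q a⁆ : Subgroup G)) (hK : x ∈ K a) : x = 1 :=
  com_inf D.Rab (D.ka.trans D.TR) (D.cop le_rfl D.ka) hx fun y hy =>
    K_comm hP D.F.u1 D.F.uu (Kq_le hP D.F.u1 D.F.uu hy) hK

/-- `Kq q b` centralises `E_a` -/
theorem L3 (hP : PP G) : ∀ x ∈ Kq q b, ∀ y ∈ (⁅R, Kq q a⁆ : Subgroup G), x * y = y * x := by
  set E : Subgroup G := ⁅R, Kq q a⁆ with hE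
  have hER : E ≤ R := D.E_le D.ka
  have hbE : Kq q b ≤ normalizer (E : Set G) := D.kb.trans (D.T_norm_E D.ka)
  set C : Subgroup G := ⁅E, Kq q b⁆ with hC
  have hCE : C ≤ E := le_normalizer_iff_commutator_le_left.1 hbE
  have hEab : ∀ x ∈ E, ∀ y ∈ E, x * y = y * x := fun x hx y hy => D.Rab x (hER hx) y (hER hy)
  have hEI : Inv a b E := Inv.commutator D.F D.RI (D.Inv_Kq hP)
  have hCI : Inv a b C := Inv.commutator D.F hEI (D.symm.Inv_Kq hP).symm
  have hCo : Odd (Nat.card C) := D.odd_le (hCE.trans hER)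
  have h1 : C ≤ K (a * b) := by
    refine le_of_parts hP D.F hCo hCI ?_ ?_ inf_le_right
    · rintro x ⟨hx, hx'⟩
      rw [D.L1 hP (hCE hx) hx']; exact one_mem _
    · rintro x ⟨hx, hx'⟩
      have : x = 1 := com_inf hEab hbE (D.cop hER D.kb) hx fun y hy =>
        K_comm hP D.F.v1 D.F.vv (Kq_le hP D.F.v1 D.F.vv hy) hx'
      rw [this]; exact one_mem _
  have h2 : C = ⊥ := by
    by_contra hne
    have h3 := (ny hP D.rot.symm.F h1 hne).2
    have h4 : Kq q b ≤ normalizer (C : Set G) := by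
      intro x hx
      exact normalizer_le_commutator E (Kq q b) (hbE hx) (le_normalizer hx)
    apply hne
    have h5 : (⁅C, Kq q b⁆ : Subgroup G) = C := D.E_E hER D.kb hbE
    rw [← h5, ← le_bot_iff, commutator_le]
    intro x hx y hy
    have := h3 y (h4 hy) (odd_of_mem D.odd_T (D.kb hy)) x hx
    rw [Subgroup.mem_bot, commutatorElement_eq_one_iff_mul_comm]
    exact this.symm
  intro x hx y hy
  have h6 : ⁅y, x⁆ ∈ C := commutator_mem_commutator hy hx
  rw [h2, Subgroup.mem_bot, commutatorElement_eq_one_iff_mul_comm] at h6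
  exact h6.symm

/-- an odd invariant group containing `T` and `E_a` normalises `E_a` -/
theorem LN (hP : PP G) {X : Subgroup G} (hX : Odd (Nat.card X)) (hI : Inv a b X) (hTX : T ≤ X)
    (hEX : (⁅R, Kq q a⁆ : Subgroup G) ≤ X) : X ≤ normalizer ((⁅R, Kq q a⁆ : Subgroup G) : Set G) := by
  have hc := cf_of_inv hP D.F hX hI
  set E : Subgroup G := ⁅R, Kq q a⁆ with hE
  have hER : E ≤ R := D.E_le D.ka
  have hEE : (⁅E, Kq q a⁆ : Subgroup G) = E := D.E_E le_rfl D.ka (D.ka.trans D.TR)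
  have hEF : E ≤ fittingOf X := by
    rw [← hEE, commutator_le]
    intro x hx y hy
    exact hc x (hEX hx) y (hTX (D.ka hy))
  set O := pCoreOf r X with hO
  have hEO : E ≤ O := H23.le_pCoreOf_of_le_fittingOf hEF (D.Rr.to_le hER)
  have hOX : O ≤ X := BG.pCoreOf_le r X
  have hNO := BG.normalizer_le_normalizer_pCoreOf r X
  have hOR : O ≤ R := by
    apply D.Rmax O (BG.pCoreOf_isPGroup r X)
    · exact TI.Inv_of_norm (hNO (Inv.mem_normalizer D.F.uu hI.1)) (hNO (Inv.mem_normalizer D.F.vv hI.2))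
    · exact hTX.trans (le_normalizer.trans hNO)
  have hOE : (⁅O, Kq q a⁆ : Subgroup G) = E := by
    apply le_antisymm (commutator_mono hOR le_rfl)
    calc E = ⁅E, Kq q a⁆ := hEE.symm
      _ ≤ ⁅O, Kq q a⁆ := commutator_mono hEO le_rfl
  have hFO : ∀ f ∈ fittingOf X, ∀ o ∈ O, f * o = o * f := by
    have : fittingOf X ≤ centralizer (O : Set G) := by
      apply H23.fittingOf_le_of_forall
      intro s hs
      have := Fact.mk hs
      by_cases hsr : s = r
      · subst hsr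
        intro x hx
        rw [mem_centralizer_iff]
        intro y hy
        exact D.Rab y (hOR hy) x (hOR hx)
      · exact H23.pCoreOf_le_centralizer (q := s) (r := r) hsr (M := X)
    intro f hf o ho
    exact (mem_centralizer_iff.1 (this hf) o ho).symm
  intro x hx
  apply TI.T_norm_of_le
  have key : (⁅O, Kq q a⁆ : Subgroup G) ≤ E.comap (MulAut.conj x).toMonoidHom := by
    rw [commutator_le]
    intro o ho k hk
    rw [mem_comap]
    have e1 : (MulAut.conj x).toMonoidHom ⁅o, k⁆ = ⁅x * o * x⁻¹, x * k * x⁻¹⁆ := by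
      simp only [MulEquiv.toMonoidHom_eq_coe, MonoidHom.coe_coe, MulAut.conj_apply, commutatorElement_def]
      group
    rw [e1]
    have ho' : x * o * x⁻¹ ∈ O := (mem_normalizer_iff.1 (BG.le_normalizer_pCoreOf r X hx) o).1 ho
    have hc' := hc x hx k (hTX (D.ka hk))
    have hkO : ∀ o' ∈ O, k * o' * k⁻¹ ∈ O := fun o' ho' =>
      (mem_normalizer_iff.1 (BG.le_normalizer_pCoreOf r X (hTX (D.ka hk))) o').1 ho'
    set c := x * k * x⁻¹ * k⁻¹ with hcdef
    set o' := x * o * x⁻¹ with ho'def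
    have e2 : x * k * x⁻¹ = c * k := by rw [hcdef]; group
    rw [e2]
    have e3 : ⁅o', c * k⁆ = ⁅o', k⁆ := by
      have h1 : c * o' = o' * c := hFO c hc' o' ho'
      have h2 : c * (k * o'⁻¹ * k⁻¹) = (k * o'⁻¹ * k⁻¹) * c := hFO c hc' _ (hkO _ (inv_mem ho'))
      rw [commutatorElement_def, commutatorElement_def]
      calc o' * (c * k) * o'⁻¹ * (c * k)⁻¹ = o' * (c * (k * o'⁻¹ * k⁻¹)) * c⁻¹ := by group
        _ = o' * ((k * o'⁻¹ * k⁻¹) * c) * c⁻¹ := by rw [h2]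
        _ = o' * k * o'⁻¹ * k⁻¹ := by group
    rw [e3, ← hOE]
    exact commutator_mem_commutator ho' hk
  intro y hy
  rw [← hOE] at hy
  exact key hy

/-- `K b` normalises `E_a` -/
theorem L5 (hP : PP G) : K b ≤ normalizer ((⁅R, Kq q a⁆ : Subgroup G) : Set G) := by
  have hKb : Kq q b ≤ K b := Kq_le hP D.F.v1 D.F.vv
  obtain ⟨h1, h2⟩ := ny hP D.F.symm hKb D.nb
  set X := OO (normalizer (Kq q b : Set G)) with hX
  have hXo : Odd (Nat.card X) := OO_odd h1
  have hXI : Inv a b X := (Inv_OO D.F.symm (Inv_of_le hP D.F.symm hKb)).symm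
  have hTX : T ≤ X := fun x hx => mem_OO_of_comm (fun y hy => D.Tab x hx y (D.kb hy)) (odd_of_mem D.odd_T hx)
  have hEX : (⁅R, Kq q a⁆ : Subgroup G) ≤ X := fun x hx =>
    mem_OO_of_comm (fun y hy => (D.L3 hP y hy x hx).symm) (odd_of_mem D.odd_R (D.E_le D.ka hx))
  have hKX : K b ≤ X := fun x hx =>
    mem_OO_of_comm (fun y hy => K_comm hP D.F.v1 D.F.vv hx (hKb hy)) ((mem_K hP D.F.v1 D.F.vv).1 hx).2
  exact hKX.trans (D.LN hP hXo hXI hTX hEX)

/-- `K a` normalises `E_a`, if `E_b ≠ 1` -/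
theorem L6 (hP : PP G) (hON : ∀ {u v : G} (_ : Four u v) {D : Subgroup G} (_ : Odd (Nat.card D)) (_ : Inv u v D)
      (_ : D ≠ ⊥) (_ : ∀ x ∈ D, x ∈ K u → x = 1), OddNil (Subgroup.normalizer (D : Set G)))
    (hne : (⁅R, Kq q b⁆ : Subgroup G) ≠ ⊥) : K a ≤ normalizer ((⁅R, Kq q a⁆ : Subgroup G) : Set G) := by
  have hER : (⁅R, Kq q b⁆ : Subgroup G) ≤ R := D.E_le D.kb
  have hEI : Inv b a (⁅R, Kq q b⁆ : Subgroup G) := Inv.commutator D.F.symm D.RI.symm (D.symm.Inv_Kq hP)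
  have hL : OddNil (normalizer ((⁅R, Kq q b⁆ : Subgroup G) : Set G)) :=
    hON D.F.symm (D.odd_le hER) hEI hne (fun x hx hK => D.symm.L1 hP hx hK)
  set X := OO (normalizer ((⁅R, Kq q b⁆ : Subgroup G) : Set G)) with hX
  have hXo : Odd (Nat.card X) := OO_odd hL
  have hXI : Inv a b X := (Inv_OO D.F.symm hEI).symm
  have hTX : T ≤ X := fun x hx => Subgroup.subset_closure ⟨D.T_norm_E D.kb hx, odd_of_mem D.odd_T hx⟩
  have hEX : (⁅R, Kq q a⁆ : Subgroup G) ≤ X := fun x hx =>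
    mem_OO_of_comm (fun y hy => D.Rab x (D.E_le D.ka hx) y (hER hy)) (odd_of_mem D.odd_R (D.E_le D.ka hx))
  have hKX : K a ≤ X := fun x hx =>
    Subgroup.subset_closure ⟨D.symm.L5 hP hx, ((mem_K hP D.F.u1 D.F.uu).1 hx).2⟩
  exact hKX.trans (D.LN hP hXo hXI hTX hEX)

/-- `[R, T] = E_a E_b E_{ab}` -/
theorem L8 (hTle : T ≤ Kq q a ⊔ Kq q b ⊔ Kq q (a * b)) :
    (⁅R, T⁆ : Subgroup G) = ⁅R, Kq q a⁆ ⊔ ⁅R, Kq q b⁆ ⊔ ⁅R, Kq q (a * b)⁆ := by
  set W : Subgroup G := ⁅R, Kq q a⁆ ⊔ ⁅R, Kq q b⁆ ⊔ ⁅R, Kq q (a * b)⁆ with hW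
  apply le_antisymm
  · -- the elements `t` with `[R, t] ≤ W`
    have hWN : T ≤ normalizer (W : Set G) := by
      intro x hx
      have h1 : x ∈ normalizer ((⁅R, Kq q a⁆ ⊔ ⁅R, Kq q b⁆ : Subgroup G) : Set G) :=
        norm_sup (D.T_norm_E D.ka hx) (D.T_norm_E D.kb hx)
      exact norm_sup h1 (D.T_norm_E D.kw hx)
    have hWR : W ≤ R := sup_le (sup_le (D.E_le D.ka) (D.E_le D.kb)) (D.E_le D.kw)
    let M : Subgroup G :=
      { carrier := {t | t ∈ T ∧ ∀ x ∈ R, ⁅x, t⁆ ∈ W}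
        one_mem' := ⟨one_mem _, fun x _ => by rw [commutatorElement_one_right]; exact one_mem _⟩
        mul_mem' := by
          rintro s t ⟨hs, hs'⟩ ⟨ht, ht'⟩
          refine ⟨mul_mem hs ht, fun x hx => ?_⟩
          have e : ⁅x, s * t⁆ = ⁅x, s⁆ * (s * ⁅x, t⁆ * s⁻¹) := by
            simp only [commutatorElement_def]; group
          rw [e]
          exact mul_mem (hs' x hx) ((mem_normalizer_iff.1 (hWN hs) _).1 (ht' x hx))
        inv_mem' := by
          rintro s ⟨hs, hs'⟩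
          refine ⟨inv_mem hs, fun x hx => ?_⟩
          have e : ⁅x, s⁻¹⁆ = s⁻¹ * ⁅x, s⁆⁻¹ * s⁻¹⁻¹ := by
            simp only [commutatorElement_def]; group
          rw [e]
          exact (mem_normalizer_iff.1 (hWN (inv_mem hs)) _).1 (inv_mem (hs' x hx)) }
    have hM : T ≤ M := by
      refine hTle.trans (sup_le (sup_le ?_ ?_) ?_)
      · intro t ht
        exact ⟨D.ka ht, fun x hx => mem_sup_left (mem_sup_left (commutator_mem_commutator hx ht))⟩
      · intro t ht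
        exact ⟨D.kb ht, fun x hx => mem_sup_left (mem_sup_right (commutator_mem_commutator hx ht))⟩
      · intro t ht
        exact ⟨D.kw ht, fun x hx => mem_sup_right (commutator_mem_commutator hx ht)⟩
    rw [commutator_le]
    intro x hx t ht
    exact (hM ht).2 x hx
  · exact sup_le (sup_le (commutator_mono le_rfl D.ka) (commutator_mono le_rfl D.kb)) (commutator_mono le_rfl D.kw)

end DD

end Cfsg.Agent.GWP
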