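import Cfsg.Agent.GWP.Last
import Cfsg.Agent.FT.Base
import Cfsg.Agent.S0111

set_option autoImplicit false
set_option linter.unusedSectionVars false

namespace Cfsg.Agent.GWP
open Subgroup
open scoped Pointwise
universe u
variable {G : Type u} [Group G] [Finite G]

theorem Cen.conj {A : Subgroup G} {t x : G} (H : Cen A t x) (g : G) :
    Cen (A.map (MulAut.conj g).toMonoidHom) (g * t * g⁻¹) (g * x * g⁻¹) where
  hab := by
    rintro _ ⟨a, ha, rfl⟩ _ ⟨b, hb, rfl⟩
    rw [← map_mul, ← map_mul, H.hab a ha b hb]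
  tA := ⟨t, H.tA, rfl⟩
  t1 := by rw [ne_eq, conj_eq_one_iff]; exact H.t1
  tt := by
    calc g * t * g⁻¹ * (g * t * g⁻¹) = g * (t * t) * g⁻¹ := by group
      _ = 1 := by rw [H.tt]; group
  uniq := by
    rintro _ ⟨a, ha, rfl⟩ h
    rw [← map_mul] at h
    have h1 : a * a = 1 := (MulAut.conj g).injective (by rw [map_one]; exact h)
    rcases H.uniq a ha h1 with h2 | h2
    · left; rw [h2]; exact map_one _
    · right; rw [h2]; rfl
  xA := by
    rintro ⟨a, ha, h⟩
    have : a = x := (MulAut.conj g).injective h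
    rw [this] at ha; exact H.xA ha
  xx := by
    calc g * x * g⁻¹ * (g * x * g⁻¹) = g * (x * x) * g⁻¹ := by group
      _ = 1 := by rw [H.xx]; group
  inv := by
    rintro _ ⟨a, ha, rfl⟩
    change g * x * g⁻¹ * (g * a * g⁻¹) * (g * x * g⁻¹)⁻¹ = (g * a * g⁻¹)⁻¹
    have := H.inv a ha
    calc g * x * g⁻¹ * (g * a * g⁻¹) * (g * x * g⁻¹)⁻¹ = g * (x * a * x⁻¹) * g⁻¹ := by group
      _ = (g * a * g⁻¹)⁻¹ := by rw [this]; group
  ct := by
    intro y hy
    have h1 : (g⁻¹ * y * g) * t = t * (g⁻¹ * y * g) := by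
      calc (g⁻¹ * y * g) * t = g⁻¹ * (y * (g * t * g⁻¹)) * g := by group
        _ = g⁻¹ * ((g * t * g⁻¹) * y) * g := by rw [hy]
        _ = t * (g⁻¹ * y * g) := by group
    rcases H.ct _ h1 with h2 | h2
    · left
      exact ⟨_, h2, by change g * (g⁻¹ * y * g) * g⁻¹ = y; group⟩
    · right
      exact ⟨_, h2, by change g * (g⁻¹ * y * g * x) * g⁻¹ = y * (g * x * g⁻¹); group⟩

theorem core_of_P [IsSimpleGroup G] (hna : ∃ a b : G, a * b ≠ b * a)
    (hP : ∀ t : G, t ≠ 1 → t * t = 1 → ∃ A : Subgroup G, (∀ a ∈ A, ∀ b ∈ A, a * b = b * a) ∧ t ∈ A ∧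
      (∀ a ∈ A, a * a = 1 → a = 1 ∨ a = t) ∧ ((∀ g : G, g * t = t * g → g ∈ A) ∨
      ∃ x : G, x ∉ A ∧ x * x = 1 ∧ (∀ a ∈ A, x * a * x⁻¹ = a⁻¹) ∧ ∀ g : G, g * t = t * g → g ∈ A ∨ g * x ∈ A)) :
    Core G := by
  haveI : Fact (Nat.Prime 2) := ⟨Nat.prime_two⟩
  have hns : ¬ Group.IsSolvable G := by
    intro h
    obtain ⟨a, b, hab⟩ := hna
    exact hab (IsSimpleGroup.comm_iff_isSolvable.2 h a b)
  have heven : 2 ∣ Nat.card G := by
    by_contra h
    exact hns (FT.solvable_of_odd (Nat.not_even_iff_odd.1 (fun h' => h (even_iff_two_dvd.1 h'))))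
  obtain ⟨S⟩ : Nonempty (Sylow 2 G) := inferInstance
  have hSne : (S : Subgroup G) ≠ ⊥ := by
    intro h
    have h1 := S.card_eq_multiplicity
    have h2 : 2 ∣ Nat.card (S : Subgroup G) := S.dvd_card_of_dvd_card heven
    rw [h, Subgroup.card_bot] at h2
    omega
  have hSn : Nontrivial (S : Subgroup G) := (Subgroup.nontrivial_iff_ne_bot _).2 hSne
  -- a central involution of S
  obtain ⟨z, hzS, z1, zz, hzc⟩ : ∃ z ∈ (S : Subgroup G), z ≠ 1 ∧ z * z = 1 ∧ ∀ s ∈ (S : Subgroup G), s * z = z * s := by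
    have h1 := S.isPGroup'.center_nontrivial
    have h2 : 2 ∣ Nat.card (center (S : Subgroup G)) := by
      obtain ⟨n, hn⟩ := IsPGroup.iff_card.1 (S.isPGroup'.to_subgroup (center (S : Subgroup G)))
      have h3 : 1 < Nat.card (center (S : Subgroup G)) := Finite.one_lt_card
      rw [hn] at h3 ⊢
      have : n ≠ 0 := by rintro rfl; simp at h3
      exact dvd_pow_self 2 this
    obtain ⟨z, hz⟩ := exists_prime_orderOf_dvd_card' 2 h2
    refine ⟨z, (z : (S : Subgroup G)).2, ?_, ?_, ?_⟩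
    · intro h
      have : z = 1 := Subtype.ext (Subtype.ext h)
      rw [this, orderOf_one] at hz; omega
    · have := pow_orderOf_eq_one z
      rw [hz, pow_two] at this
      exact congrArg (fun w : center (S : Subgroup G) => ((w : (S : Subgroup G)) : G)) this
    · intro s hs
      exact congrArg Subtype.val (mem_center_iff.1 z.2 ⟨s, hs⟩)
  have hz2 : orderOf z = 2 := orderOf_eq_prime (by rw [pow_two]; exact zz) z1
  obtain ⟨A, hab, hzA, huniq, hor⟩ := hP z z1 zz
  have hcore : Cfsg.pPrimeCore 2 G = ⊥ := by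
    have hn : (Cfsg.pPrimeCore 2 G).Normal := inferInstance
    rcases hn.eq_bot_or_eq_top with h | h
    · exact h
    · exfalso
      have h1 := Cfsg.Agent.H4.odd_card_pPrimeCore_two (G := G)
      rw [h, Subgroup.card_top] at h1
      exact (Nat.not_even_iff_odd.2 h1) (even_iff_two_dvd.2 heven)
  obtain ⟨x, hxA, hxx, hxinv, hct⟩ := hor.resolve_left (by
    intro hall
    have hiso : ∀ g : G, g * z * g⁻¹ ∈ (S : Subgroup G) → g * z * g⁻¹ = z := by
      intro g hg
      have h1 : g * z * g⁻¹ ∈ A := hall _ (hzc _ hg)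
      rcases huniq _ h1 (by
        calc g * z * g⁻¹ * (g * z * g⁻¹) = g * (z * z) * g⁻¹ := by group
          _ = 1 := by rw [zz]; group) with h2 | h2
      · rw [conj_eq_one_iff] at h2; exact absurd h2 z1
      · exact h2
    have hcent : ∀ g : G, z * g = g * z := by
      intro g
      have h1 := Cfsg.Agent.H4.zstar_sylow S hz2 hiso g
      rw [hcore, Subgroup.mem_bot] at h1
      have h2 : z * g * z⁻¹ = g := by
        rw [mul_inv_eq_one] at h1; exact h1
      rw [mul_inv_eq_iff_eq_mul] at h2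
      exact h2
    have hzcen : z ∈ center G := mem_center_iff.2 fun g => (hcent g).symm
    have hcn : (center G).Normal := inferInstance
    rcases hcn.eq_bot_or_eq_top with h | h
    · rw [h, Subgroup.mem_bot] at hzcen; exact z1 hzcen
    · obtain ⟨a, b, hab'⟩ := hna
      apply hab'
      have : b ∈ center G := by rw [h]; exact mem_top _
      exact mem_center_iff.1 this a)
  have H : Cen A z x := ⟨hab, hzA, z1, zz, huniq, hxA, hxx, hxinv, hct⟩
  have hnoidx : ∀ M : Subgroup G, M.Normal → M.index = 2 → False := by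
    intro M hM hMi
    rcases hM.eq_bot_or_eq_top with h | h
    · rw [h, Subgroup.index_bot] at hMi
      obtain ⟨a, b, hab'⟩ := hna
      haveI : IsCyclic G := isCyclic_of_prime_card (p := 2) hMi
      letI := IsCyclic.commGroup (α := G)
      exact hab' (mul_comm a b)
    · rw [h, Subgroup.index_top] at hMi; omega
  have hconj1 : ∀ t : G, t ≠ 1 → t * t = 1 → ∃ g : G, g * t * g⁻¹ = z := by
    intro t t1 tt
    have ht2 : orderOf t = 2 := orderOf_eq_prime (by rw [pow_two]; exact tt) t1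
    obtain ⟨g, hg⟩ := H4.exists_conj_mem_sylow S (x := t) (k := 1) (by rw [pow_one, pow_two]; exact tt)
    have htg : orderOf (g * t * g⁻¹) = 2 := by rw [H4.orderOf_conj', ht2]
    have fin : ∀ w : G, orderOf w = 2 → w ∈ A → w = z := by
      intro w hw hwA
      rcases huniq w hwA (H4.mul_self_of_orderOf_two hw) with h | h
      · rw [h, orderOf_one] at hw; omega
      · exact h
    by_cases hA : g * t * g⁻¹ ∈ A
    · exact ⟨g, fin _ htg hA⟩
    · have hidx : ((S : Subgroup G) ⊓ A).relIndex (S : Subgroup G) = 2 := by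
        rw [Subgroup.relIndex, Subgroup.index_eq_two_iff_exists_notMem_and']
        refine ⟨⟨_, hg⟩, fun hc => hA (mem_subgroupOf.1 hc).2, fun b => ?_⟩
        by_cases hbA : (b : G) ∈ A
        · right
          exact mem_subgroupOf.2 ⟨b.2, hbA⟩
        · left
          rw [mem_subgroupOf]
          refine ⟨mul_mem hg b.2, ?_⟩
          obtain ⟨a, ha, ha'⟩ := (H.mem_or _ (hzc _ hg)).resolve_left hA
          obtain ⟨c, hc, hc'⟩ := (H.mem_or _ (hzc _ b.2)).resolve_left hbA
          change g * t * g⁻¹ * (b : G) ∈ A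
          rw [ha', hc']
          have : a * x * (c * x) = a * c⁻¹ := by
            calc a * x * (c * x) = a * (x * c) * x := by group
              _ = a * (c⁻¹ * x) * x := by rw [H.x_mul c hc]
              _ = a * c⁻¹ * (x * x) := by group
              _ = a * c⁻¹ := by rw [H.xx, mul_one]
          rw [this]
          exact mul_mem ha (inv_mem hc)
      rcases S0111.result S ((S : Subgroup G) ⊓ A) inf_le_left hidx (g * t * g⁻¹) htg hg
        (fun h => hA h.2) with ⟨M, hM, hMi, -⟩ | ⟨k, hk⟩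
      · exact (hnoidx M hM hMi).elim
      · refine ⟨k * g, ?_⟩
        have h1 : k * g * t * (k * g)⁻¹ = k * (g * t * g⁻¹) * k⁻¹ := by group
        rw [h1]
        exact fin _ (by rw [H4.orderOf_conj', htg]) hk.2
  refine ⟨?_, ?_⟩
  · intro t t1 tt
    obtain ⟨g, hg⟩ := hconj1 t t1 tt
    have h1 := H.conj g⁻¹
    have h2 : g⁻¹ * z * g⁻¹⁻¹ = t := by rw [← hg]; group
    rw [h2] at h1
    exact ⟨_, _, h1⟩
  · intro s t s1 ss t1 tt
    obtain ⟨g, hg⟩ := hconj1 s s1 ss
    obtain ⟨h, hh⟩ := hconj1 t t1 tt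
    refine ⟨h⁻¹ * g, ?_⟩
    calc h⁻¹ * g * s * (h⁻¹ * g)⁻¹ = h⁻¹ * (g * s * g⁻¹) * h := by group
      _ = h⁻¹ * (h * t * h⁻¹) * h := by rw [hg, hh]
      _ = t := by group

theorem psl_of_P [IsSimpleGroup G] (hna : ∃ a b : G, a * b ≠ b * a)
    (hP : ∀ t : G, t ≠ 1 → t * t = 1 → ∃ A : Subgroup G, (∀ a ∈ A, ∀ b ∈ A, a * b = b * a) ∧ t ∈ A ∧
      (∀ a ∈ A, a * a = 1 → a = 1 ∨ a = t) ∧ ((∀ g : G, g * t = t * g → g ∈ A) ∨
      ∃ x : G, x ∉ A ∧ x * x = 1 ∧ (∀ a ∈ A, x * a * x⁻¹ = a⁻¹) ∧ ∀ g : G, g * t = t * g → g ∈ A ∨ g * x ∈ A)) :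
    ∃ (F : Type) (_ : Field F) (_ : Fintype F), Odd (Fintype.card F) ∧
      Nonempty (G ≃* Matrix.ProjectiveSpecialLinearGroup (Fin 2) F) := by
  have hC := core_of_P hna hP
  haveI : Fact (Nat.Prime 2) := ⟨Nat.prime_two⟩
  have hns : ¬ Group.IsSolvable G := by
    intro h
    obtain ⟨a, b, hab⟩ := hna
    exact hab (IsSimpleGroup.comm_iff_isSolvable.2 h a b)
  have heven : 2 ∣ Nat.card G := by
    by_contra h
    exact hns (FT.solvable_of_odd (Nat.not_even_iff_odd.1 (fun h' => h (even_iff_two_dvd.1 h'))))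
  obtain ⟨t, ht⟩ := exists_prime_orderOf_dvd_card' 2 heven
  have t1 : t ≠ 1 := by rintro rfl; rw [orderOf_one] at ht; omega
  have tt : t * t = 1 := by rw [← pow_two, ← ht]; exact pow_orderOf_eq_one t
  obtain ⟨A, x, H⟩ := hC.pp t t1 tt
  have F : Four t x :=
    { u1 := t1
      v1 := by intro h; apply H.xA; rw [h]; exact one_mem _
      ne := by intro h; apply H.xA; rw [← h]; exact H.tA
      uu := tt
      vv := H.xx
      comm := H.x_comm.symm }
  obtain ⟨K', t', s', hconf⟩ := psl_of_no_pi hC F (fun q hq u v hq2 F' y hy hyc => by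
    haveI := hq
    exact no_pi hC F' hq2 hy hyc)
  exact BSW.psl_of_conf_simple hconf

end Cfsg.Agent.GWP
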