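import Cfsg.Agent.GWP.Basic
import Cfsg.Agent.GWP.Main
import Cfsg.Agent.H72.SmallSolvable
import Cfsg.Agent.H37.MinNormal
import Cfsg.Agent.H1.Basic
import Cfsg.Agent.H14.SubField
import Cfsg.Agent.S0144
import Cfsg.Agent.FT.Base

set_option autoImplicit false
set_option linter.unusedSectionVars false

/-! From `Core R`, `O(R) = 1`, no subgroup of index two: `R = PSL₂(q)`. -/

namespace Cfsg.Agent.GWP
open Subgroup
open scoped commutatorElement Pointwise
universe u
variable {R : Type u} [Group R] [Finite R]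

theorem solvable_of_comm {N : Subgroup R} (h : ∀ x ∈ N, ∀ y ∈ N, x * y = y * x) : Group.IsSolvable N :=
  Group.isSolvable_of_comm (fun a b => Subtype.ext (h a a.2 b b.2))

/-- centralisers of involutions are solvable -/
theorem solv_cent (hP : PP R) {t : R} (t1 : t ≠ 1) (tt : t * t = 1) :
    Group.IsSolvable (centralizer ({t} : Set R)) := by
  obtain ⟨A, x, H⟩ := hP t t1 tt
  apply H1.solvable_of_commutator
  have key : ∀ c ∈ commutator (centralizer ({t} : Set R)), ((c : centralizer ({t} : Set R)) : R) ∈ A := by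
    have : commutator (centralizer ({t} : Set R)) ≤ A.comap (centralizer ({t} : Set R)).subtype := by
      rw [commutator_def, commutator_le]
      rintro ⟨g, hg⟩ - ⟨h, hh⟩ -
      rw [mem_comap]
      change ⁅g, h⁆ ∈ A
      rw [mem_centralizer_singleton_iff] at hg hh
      rcases H.mem_or g hg with h1 | ⟨a, ha, rfl⟩
      · rcases H.mem_or h hh with h2 | ⟨b, hb, rfl⟩
        · rw [commutatorElement_def]
          exact mul_mem (mul_mem (mul_mem h1 h2) (inv_mem h1)) (inv_mem h2)
        · have e : ⁅g, b * x⁆ = g * ((b * x) * g⁻¹ * (b * x)⁻¹) := by rw [commutatorElement_def]; group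
          rw [e, H.ax_conj b g⁻¹ hb (inv_mem h1)]
          exact mul_mem h1 (inv_mem (inv_mem h1))
      · rcases H.mem_or h hh with h2 | ⟨b, hb, rfl⟩
        · have e : ⁅a * x, h⁆ = ((a * x) * h * (a * x)⁻¹) * h⁻¹ := by rw [commutatorElement_def]
          rw [e, H.ax_conj a h ha h2]
          exact mul_mem (inv_mem h2) (inv_mem h2)
        · have e1 : (a * x) * (b * x) = a * b⁻¹ := by
            calc a * x * (b * x) = a * (x * b) * x := by group
              _ = a * (b⁻¹ * x) * x := by rw [H.x_mul b hb]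
              _ = a * b⁻¹ * (x * x) := by group
              _ = a * b⁻¹ := by rw [H.xx, mul_one]
          have e2 : (b * x) * (a * x) = b * a⁻¹ := by
            calc b * x * (a * x) = b * (x * a) * x := by group
              _ = b * (a⁻¹ * x) * x := by rw [H.x_mul a ha]
              _ = b * a⁻¹ * (x * x) := by group
              _ = b * a⁻¹ := by rw [H.xx, mul_one]
          have e : ⁅a * x, b * x⁆ = ((a * x) * (b * x)) * ((b * x) * (a * x))⁻¹ := by
            rw [commutatorElement_def]; group
          rw [e, e1, e2]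
          exact mul_mem (mul_mem ha (inv_mem hb)) (inv_mem (mul_mem hb (inv_mem ha)))
    intro c hc
    exact this hc
  apply solvable_of_comm
  intro a ha b hb
  exact Subtype.ext (H.hab _ (key a ha) _ (key b hb))

theorem exists_inv {M : Subgroup R} (h : ¬ Odd (Nat.card M)) : ∃ t ∈ M, t ≠ 1 ∧ t * t = 1 := by
  rw [Nat.not_odd_iff_even, even_iff_two_dvd] at h
  have : Fact (Nat.Prime 2) := ⟨Nat.prime_two⟩
  obtain ⟨g, hg⟩ := exists_prime_orderOf_dvd_card' 2 h
  refine ⟨g, g.2, ?_, ?_⟩
  · intro h1
    have : g = 1 := Subtype.ext h1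
    rw [this, orderOf_one] at hg; omega
  · have := pow_orderOf_eq_one g
    rw [hg, pow_two] at this
    exact congrArg Subtype.val this

theorem exists_simple (hns : ¬ Group.IsSolvable R)
    (hO : ∀ N : Subgroup R, N.Normal → Odd (Nat.card N) → N = ⊥) (hC : Core R) :
    ∃ M : Subgroup R, M.Normal ∧ IsSimpleGroup M ∧ (∃ a b : M, a * b ≠ b * a) ∧
      ∀ t : R, t ≠ 1 → t * t = 1 → t ∈ M := by
  have hP := hC.pp
  have hR : Nontrivial R := by
    by_contra h
    rw [not_nontrivial_iff_subsingleton] at h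
    exact hns inferInstance
  obtain ⟨M, hMn, -, hM1, hmin⟩ := Solv.exists_minimal_normal (⊤ : Subgroup R) inferInstance top_ne_bot
  have hMe : ¬ Odd (Nat.card M) := fun h => hM1 (hO M hMn h)
  obtain ⟨t, htM, t1, tt⟩ := exists_inv hMe
  have hall : ∀ s : R, s ≠ 1 → s * s = 1 → s ∈ M := by
    intro s s1 ss
    obtain ⟨g, hg⟩ := hC.conj t s t1 tt s1 ss
    rw [← hg]
    exact hMn.conj_mem t htM g
  refine ⟨M, hMn, ?_⟩
  have hsc := solv_cent hP t1 tt
  by_cases hMs : Group.IsSolvable M
  · exfalso
    obtain ⟨hMc, p, hp, hMp⟩ := Solv.minimal_normal_of_solvable M hMs hM1 hmin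
    have hp2 : p = 2 := by
      have h1 : t ^ p = 1 := hMp t htM
      have h2 : orderOf t = 2 := orderOf_eq_prime (by rw [pow_two]; exact tt) t1
      have h3 := orderOf_dvd_of_pow_eq_one h1
      rw [h2] at h3
      exact ((Nat.prime_dvd_prime_iff_eq Nat.prime_two hp).1 h3).symm
    subst hp2
    have hcomm : ∀ a ∈ M, ∀ b ∈ M, a * b = b * a := fun a ha b hb =>
      congrArg Subtype.val (hMc.is_comm.comm (⟨a, ha⟩ : M) ⟨b, hb⟩)
    obtain ⟨A, x, H⟩ := hP t t1 tt
    have hMA : ∀ m ∈ M, m ∈ A → m = 1 ∨ m = t := fun m hm hmA =>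
      H.uniq m hmA (by rw [← pow_two]; exact hMp m hm)
    have hcard : Nat.card M ≤ 4 := by
      obtain ⟨m0, hm0⟩ : ∃ m0 : R, ∀ m ∈ M, m = 1 ∨ m = t ∨ m = m0 ∨ m = t * m0 := by
        by_cases h : ∃ m0 ∈ M, m0 ∉ A
        · obtain ⟨m0, hm0, hm0A⟩ := h
          refine ⟨m0, fun m hm => ?_⟩
          by_cases hmA : m ∈ A
          · rcases hMA m hm hmA with h1 | h1
            · exact Or.inl h1
            · exact Or.inr (Or.inl h1)
          · obtain ⟨a, ha, ha'⟩ := (H.mem_or m0 (hcomm m0 hm0 t htM)).resolve_left hm0A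
            obtain ⟨b, hb, hb'⟩ := (H.mem_or m (hcomm m hm t htM)).resolve_left hmA
            have h1 : m * m0⁻¹ ∈ A := by
              rw [ha', hb']
              have : b * x * (a * x)⁻¹ = b * a⁻¹ := by group
              rw [this]; exact mul_mem hb (inv_mem ha)
            rcases hMA _ (mul_mem hm (inv_mem hm0)) h1 with h2 | h2
            · right; right; left; exact mul_inv_eq_one.1 h2
            · right; right; right; rw [← h2, inv_mul_cancel_right]
        · push Not at h
          refine ⟨1, fun m hm => ?_⟩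
          rcases hMA m hm (h m hm) with h1 | h1
          · exact Or.inl h1
          · exact Or.inr (Or.inl h1)
      have h1 : (M : Set R) ⊆ (({1, t, m0, t * m0} : Set R)) := by
        intro m hm
        simp only [Set.mem_insert_iff, Set.mem_singleton_iff]
        exact hm0 m hm
      have h2 : (M : Set R).ncard ≤ ({1, t, m0, t * m0} : Set R).ncard := Set.ncard_le_ncard h1 (Set.toFinite _)
      have h3 : ({1, t, m0, t * m0} : Set R).ncard ≤ 4 := by
        refine (Set.ncard_insert_le _ _).trans ?_
        have := (Set.ncard_insert_le t {m0, t * m0})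
        have h5 := (Set.ncard_insert_le m0 {t * m0})
        rw [Set.ncard_singleton] at h5
        omega
      have h4 : Nat.card M = (M : Set R).ncard := rfl
      omega
    have hps := H72.isSolvable_perm_of_card_le_four hcard
    let f : R →* Equiv.Perm M := (MulAut.toPerm M).comp MulAut.conjNormal
    have hk : f.ker ≤ centralizer ({t} : Set R) := by
      intro g hg
      rw [mem_centralizer_singleton_iff]
      have h1 : f g ⟨t, htM⟩ = ⟨t, htM⟩ := by rw [MonoidHom.mem_ker.1 hg]; rfl
      have h2 : g * t * g⁻¹ = t := congrArg Subtype.val h1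
      rw [mul_inv_eq_iff_eq_mul] at h2
      exact h2
    have hks : Group.IsSolvable f.ker :=
      Group.isSolvable_of_isSolvable_injective (f := Subgroup.inclusion hk) (Subgroup.inclusion_injective hk)
    have hrs : Group.IsSolvable f.range := by infer_instance
    apply hns
    refine Group.isSolvable_of_ker_le_range f.ker.subtype f.rangeRestrict ?_
    rw [MonoidHom.ker_rangeRestrict, Subgroup.range_subtype]
  · obtain ⟨T, m, hTM, -, hTs, hm, ⟨e⟩⟩ := H37.minNormal_structure M hMn hM1 hmin
    have hTns : ¬ Group.IsSolvable T := by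
      intro h
      apply hMs
      have h1 := IsSimpleGroup.comm_iff_isSolvable.2 h
      apply Group.isSolvable_of_comm
      intro a b
      apply e.injective
      rw [map_mul, map_mul]
      funext i
      exact h1 _ _
    have hna : ∃ a b : T, a * b ≠ b * a := by
      by_contra h
      push Not at h
      exact hTns (Group.isSolvable_of_comm h)
    have hTe : ¬ Odd (Nat.card T) := by
      intro h
      apply hMe
      rw [Nat.card_congr e.toEquiv, Nat.card_pi]
      simp only [Finset.prod_const]
      exact h.pow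
    have hm1 : m = 1 := by
      by_contra hm1
      have hm2 : 2 ≤ m := by omega
      obtain ⟨a, haT, a1, aa⟩ := exists_inv hTe
      let i0 : Fin m := ⟨0, by omega⟩
      let i1 : Fin m := ⟨1, by omega⟩
      have hi : i0 ≠ i1 := by
        intro h; have := congrArg Fin.val h; simp [i0, i1] at this
      let a' : T := ⟨a, haT⟩
      let s : M := e.symm (Pi.mulSingle i0 a')
      have s1 : (s : R) ≠ 1 := by
        intro h
        have h1 : s = 1 := Subtype.ext h
        have h2 : Pi.mulSingle i0 a' = (1 : Fin m → T) := by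
          apply e.symm.injective
          rw [map_one]; exact h1
        have h3 := congrFun h2 i0
        rw [Pi.mulSingle_eq_same, Pi.one_apply] at h3
        exact a1 (congrArg Subtype.val h3)
      have ss : (s : R) * s = 1 := by
        have h1 : s * s = 1 := by
          change e.symm _ * e.symm _ = 1
          rw [← map_mul, ← Pi.mulSingle_mul]
          have : a' * a' = 1 := Subtype.ext aa
          rw [this, Pi.mulSingle_one, map_one]
        exact congrArg Subtype.val h1
      have hsol := solv_cent hP s1 ss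
      apply hTns
      let φ : T →* centralizer ({(s : R)} : Set R) :=
        { toFun := fun g => ⟨(e.symm (Pi.mulSingle i1 g) : M), by
            rw [mem_centralizer_singleton_iff]
            have h1 : (Pi.mulSingle i1 g : Fin m → T) * Pi.mulSingle i0 a' = Pi.mulSingle i0 a' * Pi.mulSingle i1 g :=
              (Pi.mulSingle_commute (f := fun _ : Fin m => T) hi.symm g a').eq
            have h2 := congrArg e.symm h1
            rw [map_mul, map_mul] at h2
            exact congrArg Subtype.val h2⟩
          map_one' := by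
            apply Subtype.ext
            change ((e.symm (Pi.mulSingle i1 1) : M) : R) = 1
            rw [Pi.mulSingle_one, map_one]; rfl
          map_mul' := by
            intro g h
            apply Subtype.ext
            change ((e.symm (Pi.mulSingle i1 (g * h)) : M) : R) = _
            rw [Pi.mulSingle_mul, map_mul]; rfl }
      have hφ : Function.Injective φ := by
        intro g h hgh
        have h1 : ((e.symm (Pi.mulSingle i1 g) : M) : R) = ((e.symm (Pi.mulSingle i1 h) : M) : R) :=
          congrArg (fun z : centralizer ({(s : R)} : Set R) => (z : R)) hgh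
        have h2 := e.symm.injective (Subtype.ext h1)
        have h3 := congrFun h2 i1
        rwa [Pi.mulSingle_eq_same, Pi.mulSingle_eq_same] at h3
      exact Group.isSolvable_of_isSolvable_injective (f := φ) hφ
    subst hm1
    let e' : M ≃* T := e.trans (MulEquiv.funUnique (Fin 1) T)
    refine ⟨e'.isSimpleGroup, ?_, hall⟩
    obtain ⟨a, b, hab⟩ := hna
    refine ⟨e'.symm a, e'.symm b, fun h => hab ?_⟩
    have := congrArg e' h
    simpa using this

theorem mem_of_sq_mem {M : Subgroup R} {c : R} (hc : Odd (orderOf c)) (h : c * c ∈ M) : c ∈ M := by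
  obtain ⟨k, hk⟩ := hc
  have h1 : c = (c * c) ^ (k + 1) := by
    rw [← pow_two, ← pow_mul]
    have : 2 * (k + 1) = orderOf c + 1 := by omega
    rw [this, pow_succ, pow_orderOf_eq_one, one_mul]
  rw [h1]
  exact pow_mem h _

theorem psl_of_core (hns : ¬ Group.IsSolvable R)
    (hO : ∀ N : Subgroup R, N.Normal → Odd (Nat.card N) → N = ⊥) (hi : ∀ M : Subgroup R, M.index ≠ 2)
    (hC : Core R) :
    ∃ (F : Type) (_ : Field F) (_ : Fintype F), 3 < Fintype.card F ∧ Odd (Fintype.card F) ∧
      Nonempty (R ≃* Matrix.ProjectiveSpecialLinearGroup (Fin 2) F) := by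
  obtain ⟨M, hMn, hMs, hna, hall⟩ := exists_simple hns hO hC
  have hP := hC.pp
  have hPM : ∀ t : M, t ≠ 1 → t * t = 1 → ∃ A : Subgroup M, (∀ a ∈ A, ∀ b ∈ A, a * b = b * a) ∧ t ∈ A ∧
      (∀ a ∈ A, a * a = 1 → a = 1 ∨ a = t) ∧ ((∀ g : M, g * t = t * g → g ∈ A) ∨
      ∃ x : M, x ∉ A ∧ x * x = 1 ∧ (∀ a ∈ A, x * a * x⁻¹ = a⁻¹) ∧ ∀ g : M, g * t = t * g → g ∈ A ∨ g * x ∈ A) := by
    intro t t1 tt
    have t1' : (t : R) ≠ 1 := fun h => t1 (Subtype.ext h)
    have tt' : (t : R) * t = 1 := congrArg Subtype.val tt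
    obtain ⟨A, x, H⟩ := hP t t1' tt'
    have x1 : x ≠ 1 := by
      intro h; apply H.xA; rw [h]; exact one_mem _
    have hxM := hall x x1 H.xx
    refine ⟨A.subgroupOf M, ?_, ?_, ?_, Or.inr ⟨⟨x, hxM⟩, ?_, ?_, ?_, ?_⟩⟩
    · intro a ha b hb
      exact Subtype.ext (H.hab a ha b hb)
    · exact H.tA
    · intro a ha haa
      rcases H.uniq a ha (congrArg Subtype.val haa) with h | h
      · exact Or.inl (Subtype.ext h)
      · exact Or.inr (Subtype.ext h)
    · exact H.xA
    · exact Subtype.ext H.xx
    · intro a ha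
      exact Subtype.ext (H.inv a ha)
    · intro g hg
      exact H.ct g (congrArg Subtype.val hg)
  have hCM : Core M := core_of_P hna hPM
  have hMns : ¬ Group.IsSolvable M := by
    intro h
    obtain ⟨a, b, hab⟩ := hna
    exact hab (IsSimpleGroup.comm_iff_isSolvable.2 h a b)
  obtain ⟨t, htM, t1, tt⟩ : ∃ t ∈ M, t ≠ 1 ∧ t * t = 1 := by
    apply exists_inv
    intro h
    exact hMns (FT.solvable_of_odd h)
  obtain ⟨A, x, H⟩ := hP t t1 tt
  have x1 : x ≠ 1 := by
    intro h; apply H.xA; rw [h]; exact one_mem _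
  have hxM := hall x x1 H.xx
  have claim1 : ∀ c, c * t = t * c → Odd (orderOf c) → c ∈ M := by
    intro c hc ho
    have hcA := H.odd_mem hc ho
    have h1 := H.inv c hcA
    have h2 : c⁻¹ * c⁻¹ ∈ M := by
      have : c⁻¹ * c⁻¹ = x * (c * x⁻¹ * c⁻¹) := by
        nth_rw 1 [← h1]; group
      rw [this]
      exact mul_mem hxM (hMn.conj_mem _ (inv_mem hxM) c)
    have h3 := mem_of_sq_mem (c := c⁻¹) (by rw [orderOf_inv]; exact ho) h2
    rw [← inv_inv c]; exact inv_mem h3
  have claim2 : ∀ r : R, ∃ k : ℕ, r ^ 2 ^ k ∈ M := by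
    intro r
    have hrt1 : r * t * r⁻¹ ≠ 1 := by rw [ne_eq, conj_eq_one_iff]; exact t1
    have hrtt : (r * t * r⁻¹) * (r * t * r⁻¹) = 1 := by
      calc r * t * r⁻¹ * (r * t * r⁻¹) = r * (t * t) * r⁻¹ := by group
        _ = 1 := by rw [tt]; group
    have hrM := hMn.conj_mem t htM r
    obtain ⟨m, hm⟩ := hCM.conj ⟨t, htM⟩ ⟨_, hrM⟩ (fun h => t1 (congrArg Subtype.val h)) (Subtype.ext tt)
      (fun h => hrt1 (congrArg Subtype.val h)) (Subtype.ext hrtt)
    have hm' : (m : R) * t * (m : R)⁻¹ = r * t * r⁻¹ := congrArg Subtype.val hm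
    set c := (m : R)⁻¹ * r with hc
    have hct : c * t = t * c := by
      rw [hc]
      calc (m : R)⁻¹ * r * t = (m : R)⁻¹ * (r * t * r⁻¹) * r := by group
        _ = (m : R)⁻¹ * ((m : R) * t * (m : R)⁻¹) * r := by rw [hm']
        _ = t * ((m : R)⁻¹ * r) := by group
    obtain ⟨k, n, hn, hkn⟩ := Nat.exists_eq_two_pow_mul_odd (orderOf_pos c).ne'
    refine ⟨k, ?_⟩
    have h1 : c ^ 2 ^ k ∈ M := by
      apply claim1
      · exact (Commute.pow_left hct _).eq
      · rw [orderOf_pow, hkn, Nat.gcd_eq_right (Dvd.intro _ rfl), Nat.mul_div_cancel_left _ (by positivity)]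
        exact hn
    have h2 : ((r : R ⧸ M)) = ((c : R) : R ⧸ M) := by
      rw [eq_comm, QuotientGroup.eq, hc]
      have : ((m : R)⁻¹ * r)⁻¹ * r = r⁻¹ * (m : R) * r := by group
      rw [this]
      have := hMn.conj_mem (m : R) m.2 r⁻¹
      rwa [inv_inv] at this
    have h3 : ((r ^ 2 ^ k : R) : R ⧸ M) = ((c ^ 2 ^ k : R) : R ⧸ M) := by
      rw [QuotientGroup.mk_pow, QuotientGroup.mk_pow, h2]
    rw [(QuotientGroup.eq_one_iff (c ^ 2 ^ k)).2 h1] at h3
    exact (QuotientGroup.eq_one_iff (r ^ 2 ^ k)).1 h3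
  have hMtop : M = ⊤ := by
    by_contra hne
    have : Fact (Nat.Prime 2) := ⟨Nat.prime_two⟩
    have hq : IsPGroup 2 (R ⧸ M) := by
      intro z
      obtain ⟨r, rfl⟩ := QuotientGroup.mk_surjective z
      obtain ⟨k, hk⟩ := claim2 r
      exact ⟨k, by rw [← QuotientGroup.mk_pow]; exact (QuotientGroup.eq_one_iff _).2 hk⟩
    obtain ⟨n, hn⟩ := IsPGroup.iff_card.1 hq
    have hn0 : n ≠ 0 := by
      intro h
      rw [h, pow_zero] at hn
      apply hne
      apply Subgroup.index_eq_one.1
      rw [Subgroup.index]; exact hn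
    obtain ⟨K, hK⟩ := Sylow.exists_subgroup_card_pow_prime (G := R ⧸ M) 2 (n := n - 1) (by
      rw [hn]; exact pow_dvd_pow _ (by omega))
    have hKi : K.index = 2 := by
      have h1 := K.card_mul_index
      rw [hK, hn] at h1
      have h2 : 2 ^ n = 2 ^ (n - 1) * 2 := by rw [← pow_succ]; congr 1; omega
      rw [h2] at h1
      exact Nat.eq_of_mul_eq_mul_left (by positivity) h1
    apply hi (K.comap (QuotientGroup.mk' M))
    rw [Subgroup.index_comap_of_surjective K (QuotientGroup.mk'_surjective M), hKi]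
  obtain ⟨F, iF, jF, hodd, ⟨e⟩⟩ := psl_of_P hna hPM
  refine ⟨F, iF, jF, ?_, hodd, ⟨?_⟩⟩
  · by_contra hle
    push Not at hle
    apply hMns
    have hcard := Cfsg.Agent.H14.SubField.card_PSL2_odd (F := F) hodd
    have h1 : 1 < Fintype.card F := Fintype.one_lt_card
    have h3 : Fintype.card F = 3 := by
      obtain ⟨k, hk⟩ := hodd; omega
    rw [h3] at hcard
    have h12 : Nat.card M = 12 := by
      rw [Nat.card_congr e.toEquiv]; omega
    exact S0144.result 2 3 2 1 Nat.prime_two Nat.prime_three (by rw [h12]; norm_num)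
  · exact (Subgroup.topEquiv.symm.trans (MulEquiv.subgroupCongr hMtop.symm)).trans e

end Cfsg.Agent.GWP
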