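import Cfsg.Agent.GWP.Psl
import Cfsg.Agent.H4.Final

set_option autoImplicit false
set_option linter.unusedSectionVars false

/-! Passing to the quotient by a normal subgroup of odd order. -/

namespace Cfsg.Agent.GWP
open Subgroup
open scoped Pointwise
universe u
variable {G : Type u} [Group G] [Finite G]

/-- `g t g⁻¹ ∈ O t` implies that some `o g` centralises `t` -/
theorem comm_quo {O : Subgroup G} [O.Normal] (hO : Odd (Nat.card O)) {t g : G} (tt : t * t = 1)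
    (h : g * t * g⁻¹ * t⁻¹ ∈ O) : ∃ o ∈ O, o * g * t = t * (o * g) := by
  have ti : t⁻¹ = t := inv_eq_of_mul_eq_one_left tt
  set c := g * t * g⁻¹ * t⁻¹ with hc
  have hct : g * t * g⁻¹ = c * t := by rw [hc, inv_mul_cancel_right]
  have hodd := odd_of_mem hO h
  -- `t` inverts `c`
  have h1 : t * c * t = c⁻¹ := by
    have h2 : (c * t) * (c * t) = 1 := by
      rw [← hct]
      calc g * t * g⁻¹ * (g * t * g⁻¹) = g * (t * t) * g⁻¹ := by group
        _ = 1 := by rw [tt]; group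
    have h3 : c * (t * c * t) = 1 := by rw [← h2]; group
    exact eq_inv_of_mul_eq_one_right h3
  obtain ⟨k, hk⟩ := hodd
  set y := c ^ (k + 1) with hy
  have hyy : y * y = c := by
    rw [hy, ← pow_add]
    have : k + 1 + (k + 1) = orderOf c + 1 := by omega
    rw [this, pow_succ, pow_orderOf_eq_one, one_mul]
  have hty : t * y * t = y⁻¹ := by
    have h4 : ∀ n : ℕ, t * c ^ n * t = (c⁻¹) ^ n := by
      intro n
      induction n with
      | zero => simp [tt]
      | succ n ih =>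
        rw [pow_succ, pow_succ, ← ih, ← h1]
        calc t * (c ^ n * c) * t = t * c ^ n * (1 : G) * c * t := by group
          _ = t * c ^ n * (t * t) * c * t := by rw [tt]
          _ = t * c ^ n * t * (t * c * t) := by group
    rw [hy, h4, inv_pow]
  refine ⟨y⁻¹, inv_mem (pow_mem h _), ?_⟩
  have h5 : g * t = c * t * g := by rw [← hct]; group
  have h6 : t * y⁻¹ = y * t := by
    rw [← hty]
    calc t * (t * y * t) = (t * t) * y * t := by group
      _ = y * t := by rw [tt, one_mul]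
  calc y⁻¹ * g * t = y⁻¹ * (g * t) := by group
    _ = y⁻¹ * (y * y) * t * g := by rw [h5, hyy]; group
    _ = (y * t) * g := by group
    _ = t * (y⁻¹ * g) := by rw [← h6]; group

/-- involutions lift -/
theorem lift_inv {O : Subgroup G} [O.Normal] (hO : Odd (Nat.card O)) {z : G ⧸ O} (z1 : z ≠ 1) (zz : z * z = 1) :
    ∃ t : G, t ≠ 1 ∧ t * t = 1 ∧ (t : G ⧸ O) = z := by
  obtain ⟨g, rfl⟩ := QuotientGroup.mk_surjective z
  have h1 : g * g ∈ O := (QuotientGroup.eq_one_iff _).1 zz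
  obtain ⟨k, hk⟩ := odd_of_mem hO h1
  refine ⟨g ^ (2 * k + 1), ?_, ?_, ?_⟩
  · intro h
    apply z1
    have h2 : ((g ^ (2 * k + 1) : G) : G ⧸ O) = (g : G ⧸ O) := by
      rw [pow_succ, pow_mul, QuotientGroup.mk_mul, QuotientGroup.mk_pow, pow_two,
        (QuotientGroup.eq_one_iff (g * g)).2 h1, one_pow, one_mul]
    rw [← h2, h]; rfl
  · rw [← pow_add]
    have : 2 * k + 1 + (2 * k + 1) = 2 * orderOf (g * g) := by omega
    rw [this, pow_mul, pow_two, pow_orderOf_eq_one]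
  · rw [pow_succ, pow_mul, QuotientGroup.mk_mul, QuotientGroup.mk_pow, pow_two,
        (QuotientGroup.eq_one_iff (g * g)).2 h1, one_pow, one_mul]

theorem Cen.quo {A : Subgroup G} {t x : G} (H : Cen A t x) {O : Subgroup G} [O.Normal]
    (hO : Odd (Nat.card O)) :
    Cen (A.map (QuotientGroup.mk' O)) ((t : G ⧸ O)) ((x : G ⧸ O)) where
  hab := by
    rintro _ ⟨a, ha, rfl⟩ _ ⟨b, hb, rfl⟩
    rw [← map_mul, ← map_mul, H.hab a ha b hb]
  tA := ⟨t, H.tA, rfl⟩
  t1 := by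
    intro h
    have h1 := (QuotientGroup.eq_one_iff t).1 h
    exact H.t1 (eq_one_of_sq (odd_of_mem hO h1) H.tt)
  tt := by rw [← QuotientGroup.mk_mul, H.tt]; rfl
  uniq := by
    rintro _ ⟨a, ha, rfl⟩ h
    have h1 : a * a ∈ O := (QuotientGroup.eq_one_iff (a * a)).1 h
    obtain ⟨k, hk⟩ := odd_of_mem hO h1
    have h2 : ((a ^ (2 * k + 1) : G) : G ⧸ O) = (a : G ⧸ O) := by
      rw [pow_succ, pow_mul, QuotientGroup.mk_mul, QuotientGroup.mk_pow, pow_two,
        (QuotientGroup.eq_one_iff (a * a)).2 h1, one_pow, one_mul]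
    have h3 : a ^ (2 * k + 1) * a ^ (2 * k + 1) = 1 := by
      rw [← pow_add]
      have : 2 * k + 1 + (2 * k + 1) = 2 * orderOf (a * a) := by omega
      rw [this, pow_mul, pow_two, pow_orderOf_eq_one]
    rcases H.uniq _ (pow_mem ha _) h3 with h4 | h4
    · left
      change (a : G ⧸ O) = 1
      rw [← h2, h4]; rfl
    · right
      change (a : G ⧸ O) = (t : G ⧸ O)
      rw [← h2, h4]
  xA := by
    rintro ⟨a, ha, h⟩
    have h1 : a⁻¹ * x ∈ O := QuotientGroup.eq.1 h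
    have h2 := H.ax_sq a⁻¹ (inv_mem ha)
    have h3 := eq_one_of_sq (odd_of_mem hO h1) h2
    apply H.xA
    rw [inv_mul_eq_one.1 h3 |>.symm]; exact ha
  xx := by rw [← QuotientGroup.mk_mul, H.xx]; rfl
  inv := by
    rintro _ ⟨a, ha, rfl⟩
    change ((x * a * x⁻¹ : G) : G ⧸ O) = ((a⁻¹ : G) : G ⧸ O)
    rw [H.inv a ha]
  ct := by
    intro z hz
    obtain ⟨g, rfl⟩ := QuotientGroup.mk_surjective z
    have h1 : g * t * g⁻¹ * t⁻¹ ∈ O := by
      rw [← QuotientGroup.eq_one_iff]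
      have h2 : ((g * t : G) : G ⧸ O) = ((t * g : G) : G ⧸ O) := hz
      have h3 : g * t * g⁻¹ * t⁻¹ = (g * t) * (t * g)⁻¹ := by group
      rw [h3, QuotientGroup.mk_mul, QuotientGroup.mk_inv, h2, mul_inv_cancel]
    obtain ⟨o, ho, hoc⟩ := comm_quo hO H.tt h1
    have h4 : ((o * g : G) : G ⧸ O) = (g : G ⧸ O) := by
      rw [QuotientGroup.mk_mul, (QuotientGroup.eq_one_iff o).2 ho, one_mul]
    rcases H.ct (o * g) hoc with h5 | h5
    · left
      exact ⟨o * g, h5, h4⟩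
    · right
      refine ⟨o * g * x, h5, ?_⟩
      change ((o * g * x : G) : G ⧸ O) = (g : G ⧸ O) * (x : G ⧸ O)
      rw [QuotientGroup.mk_mul, h4]

theorem core_quo {A : Subgroup G} {j x : G} (H : Cen A j x)
    (hconj : ∀ t : G, t ≠ 1 → t * t = 1 → ∃ g : G, g * t * g⁻¹ = j) {O : Subgroup G} [O.Normal]
    (hO : Odd (Nat.card O)) : Core (G ⧸ O) := by
  refine ⟨?_, ?_⟩
  · intro z z1 zz
    obtain ⟨t, t1, tt, rfl⟩ := lift_inv hO z1 zz
    obtain ⟨g, hg⟩ := hconj t t1 tt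
    have h1 := H.conj g⁻¹
    have h2 : g⁻¹ * j * g⁻¹⁻¹ = t := by rw [← hg]; group
    rw [h2] at h1
    exact ⟨_, _, h1.quo hO⟩
  · intro y z y1 yy z1 zz
    obtain ⟨s, s1, ss, rfl⟩ := lift_inv hO y1 yy
    obtain ⟨t, t1, tt, rfl⟩ := lift_inv hO z1 zz
    obtain ⟨g, hg⟩ := hconj s s1 ss
    obtain ⟨h, hh⟩ := hconj t t1 tt
    refine ⟨((h⁻¹ * g : G) : G ⧸ O), ?_⟩
    have h1 : h⁻¹ * g * s * (h⁻¹ * g)⁻¹ = t := by
      calc h⁻¹ * g * s * (h⁻¹ * g)⁻¹ = h⁻¹ * (g * s * g⁻¹) * h := by group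
        _ = h⁻¹ * (h * t * h⁻¹) * h := by rw [hg, hh]
        _ = t := by group
    rw [← QuotientGroup.mk_inv, ← QuotientGroup.mk_mul, ← QuotientGroup.mk_mul, h1]

theorem quo_ns (hns : ¬ Group.IsSolvable G) {O : Subgroup G} [O.Normal] (hO : Odd (Nat.card O)) :
    ¬ Group.IsSolvable (G ⧸ O) := by
  intro h
  apply hns
  have h1 : Group.IsSolvable O := FT.solvable_of_odd hO
  exact Group.isSolvable_of_ker_le_range O.subtype (QuotientGroup.mk' O) (by simp)

theorem psl_quo (hns : ¬ Group.IsSolvable G) (hi : ∀ M : Subgroup G, M.index ≠ 2)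
    {A : Subgroup G} {j x : G} (H : Cen A j x)
    (hconj : ∀ t : G, t ≠ 1 → t * t = 1 → ∃ g : G, g * t * g⁻¹ = j) :
    ∃ (F : Type) (_ : Field F) (_ : Fintype F), 3 < Fintype.card F ∧ Odd (Fintype.card F) ∧
      Nonempty (G ⧸ Cfsg.pPrimeCore 2 G ≃* Matrix.ProjectiveSpecialLinearGroup (Fin 2) F) := by
  have hO : Odd (Nat.card (Cfsg.pPrimeCore 2 G)) := Cfsg.Agent.H4.odd_card_pPrimeCore_two
  apply psl_of_core (quo_ns hns hO) ?_ ?_ (core_quo H hconj hO)
  · intro N hN hNo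
    have h1 : N ≤ Cfsg.pPrimeCore 2 (G ⧸ Cfsg.pPrimeCore 2 G) :=
      le_sSup ⟨hN, Nat.coprime_two_right.2 hNo⟩
    haveI : Fact (Nat.Prime 2) := ⟨Nat.prime_two⟩
    rw [Cfsg.Agent.Solv.pPrimeCore_quotient_pPrimeCore] at h1
    exact le_bot_iff.1 h1
  · intro M hM
    apply hi (M.comap (QuotientGroup.mk' (Cfsg.pPrimeCore 2 G)))
    rw [Subgroup.index_comap_of_surjective M (QuotientGroup.mk'_surjective _), hM]

end Cfsg.Agent.GWP
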