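import Cfsg.Agent.GWP.TInv
import Cfsg.Agent.JY.U1
import Cfsg.Agent.BS.Conseq

set_option autoImplicit false

namespace Cfsg.Agent.GWP
universe u
variable {G : Type u} [Group G] [Finite G]

namespace SE

theorem exists_noncomm [IsSimpleGroup G] {u v : G} (F : Four u v) : ∃ a b : G, a * b ≠ b * a := by
  by_contra hcon
  push Not at hcon
  have hn : (Subgroup.zpowers u).Normal := ⟨fun x hx g => by
    rw [hcon g x, mul_inv_cancel_right]; exact hx⟩
  rcases hn.eq_bot_or_eq_top with h | h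
  · rw [Subgroup.zpowers_eq_bot] at h
    exact F.u1 h
  · have hv : v ∈ Subgroup.zpowers u := by rw [h]; trivial
    have h2 : ∀ x ∈ Subgroup.zpowers u, x = 1 ∨ x = u := by
      rintro _ ⟨k, rfl⟩
      rcases Int.even_or_odd' k with ⟨m, rfl | rfl⟩
      · left
        change u ^ (2 * m) = 1
        rw [zpow_mul, zpow_ofNat, pow_two, F.uu, one_zpow]
      · right
        change u ^ (2 * m + 1) = u
        rw [zpow_add, zpow_mul, zpow_ofNat, pow_two, F.uu, one_zpow, one_mul, zpow_one]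
    rcases h2 v hv with h3 | h3
    · exact F.v1 h3
    · exact F.ne h3.symm

theorem isP_zpowers {s : G} (ss : s * s = 1) : IsPGroup 2 (Subgroup.zpowers s) := by
  have : Fact (Nat.Prime 2) := ⟨Nat.prime_two⟩
  rw [IsPGroup.iff_card]
  rw [Nat.card_zpowers]
  have h : orderOf s ∣ 2 := orderOf_dvd_of_pow_eq_one (by rw [pow_two, ss])
  exact (Nat.dvd_prime_pow Nat.prime_two).1 (by rwa [pow_one] : orderOf s ∣ 2 ^ 1) |>.imp fun n hn => hn.2

theorem mem_zp_norm {a b : G} (h : b * a * b⁻¹ = a⁻¹) : b ∈ Subgroup.normalizer (Subgroup.zpowers a : Set G) := by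
  apply TI.T_norm_of_le
  rintro _ ⟨k, rfl⟩
  have e : b * a ^ k * b⁻¹ = (b * a * b⁻¹) ^ k := (conj_zpow).symm
  change b * a ^ k * b⁻¹ ∈ _
  rw [e, h]
  exact Subgroup.zpow_mem _ (Subgroup.inv_mem _ (Subgroup.mem_zpowers a)) _

/-- the 2-group generated by a 2-element and an involution inverting it -/
theorem isP_dih {a b : G} (ha : ∃ k : ℕ, a ^ 2 ^ k = 1) (bb : b * b = 1) (h : b * a * b⁻¹ = a⁻¹) :
    IsPGroup 2 (Subgroup.zpowers a ⊔ Subgroup.zpowers b : Subgroup G) := by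
  have : Fact (Nat.Prime 2) := ⟨Nat.prime_two⟩
  have h1 : IsPGroup 2 (Subgroup.zpowers a) := by
    obtain ⟨k, hk⟩ := ha
    rw [IsPGroup.iff_card, Nat.card_zpowers]
    exact (Nat.dvd_prime_pow Nat.prime_two).1 (orderOf_dvd_of_pow_eq_one hk) |>.imp fun n hn => hn.2
  exact h1.to_sup_of_normal_left' (isP_zpowers bb) ((Subgroup.zpowers_le.2 (mem_zp_norm h)))

theorem exists_sylow {u v : G} (F : Four u v) : ∃ S : Sylow 2 G, u ∈ (S : Subgroup G) ∧ v ∈ (S : Subgroup G) := by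
  have h : IsPGroup 2 (Subgroup.zpowers u ⊔ Subgroup.zpowers v : Subgroup G) :=
    isP_dih ⟨1, by rw [pow_one, pow_two, F.uu]⟩ F.vv (by rw [← F.comm, mul_inv_cancel_right, F.uinv])
  obtain ⟨S, hS⟩ := h.exists_le_sylow
  exact ⟨S, hS ((le_sup_left : Subgroup.zpowers u ≤ _) (Subgroup.mem_zpowers u)),
    hS ((le_sup_right : Subgroup.zpowers v ≤ _) (Subgroup.mem_zpowers v))⟩

end SE

/-- no proper subgroup contains `N(S)` and the involution centralisers, unless all `K t` are trivial -/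
theorem no_se [IsSimpleGroup G] (hG : Core G) {u v : G} (F : Four u v) (S : Sylow 2 G) {M : Subgroup G} (hM : M ≠ ⊤)
    (hS : Subgroup.normalizer ((S : Subgroup G) : Set G) ≤ M)
    (hC : ∀ t ∈ (S : Subgroup G), t ≠ 1 → t * t = 1 → Subgroup.centralizer ({t} : Set G) ≤ M) :
    K u = ⊥ := by
  have hP := hG.pp
  have : Fact (Nat.Prime 2) := ⟨Nat.prime_two⟩
  -- a conjugate four-group in `S`
  obtain ⟨S₁, hu1, hv1⟩ := SE.exists_sylow F
  obtain ⟨g, hg⟩ := MulAction.exists_smul_eq G S₁ S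
  have hgS : ∀ x ∈ (S₁ : Subgroup G), g * x * g⁻¹ ∈ (S : Subgroup G) := by
    intro x hx
    rw [← hg, Sylow.coe_subgroup_smul]
    exact ⟨x, hx, rfl⟩
  have F' := F.conj g
  have hS0 : (S : Subgroup G) ≠ ⊥ := by
    intro h
    have := hgS u hu1
    rw [h, Subgroup.mem_bot] at this
    exact F'.u1 this
  have hC' : ∀ t ∈ (S : Subgroup G), orderOf t = 2 → Subgroup.centralizer ({t} : Set G) ≤ M := by
    intro t ht ht2
    have h1 : t ≠ 1 := by
      intro h
      rw [h, orderOf_one] at ht2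
      omega
    have h2 : t * t = 1 := by
      have := pow_orderOf_eq_one t
      rwa [ht2, pow_two] at this
    exact hC t ht h1 h2
  rcases JY.U.se_or_top S hS hC' hS0 with h | h
  · exact absurd h hM
  obtain ⟨S', hS'⟩ := BS.exists_eq_normalizer (SE.exists_noncomm F) h
  have hSS' : (S : Subgroup G) = (S' : Subgroup G) := by
    have h1 : (S : Subgroup G) ≤ Subgroup.normalizer ((S' : Subgroup G) : Set G) := by
      rw [← hS']; exact Subgroup.le_normalizer.trans hS
    have h2 : IsPGroup 2 ((S' : Subgroup G) ⊔ (S : Subgroup G) : Subgroup G) := S'.2.to_sup_of_normal_left' S.2 h1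
    have h3 := S'.3 h2 le_sup_left
    have h4 := S.3 h2 le_sup_right
    exact h4.symm.trans h3
  have hKa : K (g * u * g⁻¹) = ⊥ := by
    rw [eq_bot_iff]
    intro k hk
    rw [Subgroup.mem_bot]
    have hk' := (mem_K hP F'.u1 F'.uu).1 hk
    have hkM : k ∈ M := hC _ (hgS u hu1) F'.u1 F'.uu (Subgroup.mem_centralizer_singleton_iff.2 hk'.1)
    rw [hS', ← hSS'] at hkM
    have h1 : k * (g * v * g⁻¹) * k⁻¹ ∈ (S : Subgroup G) := (Subgroup.mem_normalizer_iff.1 hkM _).1 (hgS v hv1)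
    have h2 := (S : Subgroup G).mul_mem h1 ((S : Subgroup G).inv_mem (hgS v hv1))
    have h3 := K_inv hP F' ((K (g * u * g⁻¹)).inv_mem hk)
    rw [inv_inv] at h3
    have e : k * (g * v * g⁻¹) * k⁻¹ * (g * v * g⁻¹)⁻¹ = k * k := by
      rw [mul_assoc (k * (g * v * g⁻¹)), mul_assoc k]
      congr 1
      rw [← mul_assoc]
      exact h3
    rw [e] at h2
    obtain ⟨n, hn⟩ := S.2 ⟨k * k, h2⟩
    have hn' : (k * k) ^ 2 ^ n = 1 := by simpa using congrArg Subtype.val hn
    have hodd : Odd (orderOf (k * k)) := by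
      rw [← pow_two]
      exact Odd.of_dvd_nat hk'.2 (orderOf_pow_dvd 2)
    have h4 : orderOf (k * k) ∣ 2 ^ n := orderOf_dvd_of_pow_eq_one hn'
    have h5 : orderOf (k * k) = 1 := by
      have hcop : Nat.Coprime (orderOf (k * k)) (2 ^ n) := Nat.Coprime.pow_right n (Nat.coprime_two_right.2 hodd)
      have h6 := Nat.dvd_gcd (dvd_refl _) h4
      rw [hcop] at h6
      exact Nat.dvd_one.1 h6
    exact eq_one_of_sq hk'.2 (orderOf_eq_one_iff.1 h5)
  rw [eq_bot_iff]
  intro k hk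
  have h1 := K_conj g u hk
  rw [hKa, Subgroup.mem_bot, conj_eq_one_iff] at h1
  rw [Subgroup.mem_bot]; exact h1

namespace SE

theorem S_T_eq (hG : Core G) {u v : G} (F : Four u v) {q : ℕ} [Fact q.Prime] (hq : q ≠ 2) (hT : IsPGroup q (T q u v))
    (S : Sylow 2 G) (hu : u ∈ (S : Subgroup G)) (hv : v ∈ (S : Subgroup G)) :
    Subgroup.normalizer ((S : Subgroup G) : Set G) ≤ Subgroup.normalizer (T q u v : Set G) := by
  intro g hg
  have h1 := (Subgroup.mem_normalizer_iff.1 hg u).1 hu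
  have h2 := (Subgroup.mem_normalizer_iff.1 hg v).1 hv
  have h3 := T_eq hG hq F hT S.2 hu hv (F.conj g) h1 h2
  apply TI.T_norm_of_le
  have e : g * (u * v) * g⁻¹ = (g * u * g⁻¹) * (g * v * g⁻¹) := by group
  rw [← h3]
  intro x hx
  rw [h3] at hx
  exact TI.T_conj_le hG.pp F g (TI.Kq_le_T1 q _ _) (TI.Kq_le_T2 q _ _) (by rw [e]; exact TI.Kq_le_T3 q _ _) x hx

theorem exists_central_inv {S : Sylow 2 G} {u : G} (hu : u ∈ (S : Subgroup G)) (u1 : u ≠ 1) :
    ∃ z ∈ (S : Subgroup G), z ≠ 1 ∧ z * z = 1 ∧ ∀ s ∈ (S : Subgroup G), s * z = z * s := by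
  have hnt : Nontrivial (S : Subgroup G) := ⟨⟨u, hu⟩, 1, fun h => u1 (congrArg Subtype.val h)⟩
  obtain ⟨z, hz, hz2⟩ := JY.U.exists_invol_center S.2
  refine ⟨z, z.2, ?_, ?_, ?_⟩
  · intro h
    have : z = 1 := Subtype.ext h
    rw [this, orderOf_one] at hz2
    omega
  · have := pow_orderOf_eq_one z
    rw [hz2, pow_two] at this
    exact congrArg Subtype.val this
  · intro s hs
    exact congrArg Subtype.val (Subgroup.mem_center_iff.1 hz ⟨s, hs⟩)

end SE

/-- a nontrivial subgroup `W` of odd order normalised by `N(T q) ⊓ N(T r)` is not normalised by `K u` -/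
theorem tw [IsSimpleGroup G] (hG : Core G) {u v : G} (F : Four u v) {q r : ℕ} [Fact q.Prime] [Fact r.Prime]
    (hq : q ≠ 2) (hr : r ≠ 2) (hT : IsPGroup q (T q u v)) (hR : IsPGroup r (T r u v)) {W : Subgroup G}
    (hW1 : W ≠ ⊥) (hWodd : Odd (Nat.card W))
    (hN : Subgroup.normalizer (T q u v : Set G) ⊓ Subgroup.normalizer (T r u v : Set G) ≤
      Subgroup.normalizer (W : Set G))
    (hK : K u ≤ Subgroup.normalizer (W : Set G)) : False := by
  have hP := hG.pp
  set M := Subgroup.normalizer (W : Set G) with hM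
  have hMtop : M ≠ ⊤ := by
    intro h
    have hn : W.Normal := Subgroup.normalizer_eq_top_iff.1 h
    rcases hn.eq_bot_or_eq_top with h1 | h1
    · exact hW1 h1
    · have h2 : u ∈ W := by rw [h1]; trivial
      exact F.u1 (eq_one_of_sq (odd_of_mem hWodd h2) F.uu)
  obtain ⟨S, huS, hvS⟩ := SE.exists_sylow F
  set N := Subgroup.normalizer (T q u v : Set G) ⊓ Subgroup.normalizer (T r u v : Set G) with hNdef
  have hKu : K u ≠ ⊥ := by
    intro hKu
    have key : ∀ p : ℕ, T p u v = ⊥ := by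
      intro p
      have h1 : Kq p u = ⊥ := by
        rw [eq_bot_iff, ← hKu]
        exact Kq_le hP F.u1 F.uu
      have h0 : Nat.card (Kq p u) = 1 := by rw [h1]; exact Subgroup.card_bot
      have h2 : Kq p v = ⊥ := Subgroup.card_eq_one.1 ((TI.card_Kq_eq hG p F.v1 F.vv F.u1 F.uu).trans h0)
      have h3 : Kq p (u * v) = ⊥ := Subgroup.card_eq_one.1 ((TI.card_Kq_eq hG p F.w1 F.ww F.u1 F.uu).trans h0)
      rw [T, h1, h2, h3, bot_sup_eq, bot_sup_eq]
    apply hMtop
    rw [eq_top_iff]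
    refine le_trans ?_ hN
    rw [hNdef, key q, key r, inf_idem]
    intro g _
    apply TI.T_norm_of_le
    intro x hx
    rw [Subgroup.mem_bot] at hx ⊢
    rw [hx]; group
  -- any 2-group containing a four-group of `S` lies in `N`
  have h2N : ∀ a b : G, Four a b → a ∈ (S : Subgroup G) → b ∈ (S : Subgroup G) → ∀ R : Subgroup G, IsPGroup 2 R →
      a ∈ R → b ∈ R → R ≤ N := by
    intro a b F' ha hb R hRp haR hbR
    have e1 := T_eq hG hq F hT S.2 huS hvS F' ha hb
    have e2 := T_eq hG hr F hR S.2 huS hvS F' ha hb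
    refine le_inf ?_ ?_
    · rw [← e1]
      exact two_le hG hq F' (by rw [e1]; exact hT) hRp haR hbR
    · rw [← e2]
      exact two_le hG hr F' (by rw [e2]; exact hR) hRp haR hbR
  have hSN : (S : Subgroup G) ≤ N := h2N u v F huS hvS S S.2 huS hvS
  -- involutions of `S` are conjugate in `N`
  obtain ⟨z, hzS, z1, zz, hzc⟩ := SE.exists_central_inv huS F.u1
  have hrot : ∀ a b : G, Four a b → a ∈ (S : Subgroup G) → b ∈ (S : Subgroup G) →
      ∃ g ∈ N, g * a * g⁻¹ = b ∧ g * b * g⁻¹ = a * b := by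
    intro a b F' ha hb
    obtain ⟨g, hg1, hg2⟩ := rho hG F'
    refine ⟨g, ?_, hg1, hg2⟩
    have e1 := T_eq hG hq F hT S.2 huS hvS F' ha hb
    have e2 := T_eq hG hr F hR S.2 huS hvS F' ha hb
    refine ⟨?_, ?_⟩
    · change g ∈ Subgroup.normalizer (T q u v : Set G)
      rw [← e1]
      exact T_conj hP F' (Or.inr (Or.inl hg1)) (Or.inr (Or.inr hg2))
    · change g ∈ Subgroup.normalizer (T r u v : Set G)
      rw [← e2]
      exact T_conj hP F' (Or.inr (Or.inl hg1)) (Or.inr (Or.inr hg2))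
  have huz : ∃ g ∈ N, g * u * g⁻¹ = z := by
    obtain ⟨g, hg, hg1, hg2⟩ := hrot u v F huS hvS
    rcases cent_four hP F (hzc u huS).symm (hzc v hvS).symm with h | h | h | h
    · exact absurd h z1
    · exact ⟨1, N.one_mem, by rw [h]; group⟩
    · exact ⟨g, hg, by rw [h]; exact hg1⟩
    · refine ⟨g * g, N.mul_mem hg hg, ?_⟩
      rw [h, ← hg2, ← hg1]; group
  have huS' : ∀ t ∈ (S : Subgroup G), t ≠ 1 → t * t = 1 → ∃ g ∈ N, g * u * g⁻¹ = t := by
    intro t ht t1 tt
    obtain ⟨g, hg, hgz⟩ := huz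
    by_cases htz : t = z
    · exact ⟨g, hg, by rw [htz]; exact hgz⟩
    · have F' : Four z t := ⟨z1, t1, fun h => htz h.symm, zz, tt, (hzc t ht).symm⟩
      obtain ⟨h, hh, hh1, -⟩ := hrot z t F' hzS ht
      refine ⟨h * g, N.mul_mem hh hg, ?_⟩
      rw [← hh1, ← hgz]; group
  -- a second involution
  have hsec : ∀ t ∈ (S : Subgroup G), t ≠ 1 → t * t = 1 → ∃ b ∈ (S : Subgroup G), Four t b := by
    intro t ht t1 tt
    by_cases htz : t = z
    · by_cases hzu : z = u
      · exact ⟨v, hvS, by rw [htz, hzu]; exact F⟩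
      · exact ⟨u, huS, by rw [htz]; exact ⟨z1, F.u1, hzu, zz, F.uu, (hzc u huS).symm⟩⟩
    · exact ⟨z, hzS, ⟨t1, z1, htz, tt, zz, hzc t ht⟩⟩
  apply hKu
  refine no_se hG F S hMtop ?_ ?_
  · exact (le_inf (SE.S_T_eq hG F hq hT S huS hvS) (SE.S_T_eq hG F hr hR S huS hvS)).trans hN
  · intro t ht t1 tt c hc
    obtain ⟨g, hg, hgt⟩ := huS' t ht t1 tt
    obtain ⟨b, hbS, F'⟩ := hsec t ht t1 tt
    have hKt : K t ≤ M := by
      intro k hk
      have hgM := hN hg
      have h1 : g⁻¹ * k * g⁻¹⁻¹ ∈ K u := by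
        have h2 := K_conj g⁻¹ t hk
        have e : g⁻¹ * t * g⁻¹⁻¹ = u := by rw [← hgt]; group
        rwa [e] at h2
      have h3 := M.mul_mem (M.mul_mem hgM (hK h1)) (M.inv_mem hgM)
      have e : g * (g⁻¹ * k * g⁻¹⁻¹) * g⁻¹ = k := by group
      rwa [e] at h3
    obtain ⟨A, x, H⟩ := hP t t1 tt
    have hbM : b ∈ M := hN (hSN hbS)
    -- 2-elements of `A`
    have hA2 : ∀ a ∈ A, (∃ k : ℕ, a ^ 2 ^ k = 1) → a ∈ M := by
      intro a ha hk
      by_cases ha1 : a = 1
      · rw [ha1]; exact M.one_mem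
      have hba : b * a * b⁻¹ = a⁻¹ := H.inv_of F'.vv F'.v1 F'.ne.symm F'.comm.symm ha
      -- `t` is a power of `a`
      have hta : t ∈ Subgroup.zpowers a := by
        obtain ⟨k, hk⟩ := hk
        obtain ⟨m, -, hm⟩ := (Nat.dvd_prime_pow Nat.prime_two).1 (orderOf_dvd_of_pow_eq_one hk)
        rcases m with _ | m
        · rw [pow_zero, orderOf_eq_one_iff] at hm
          exact absurd hm ha1
        · have h1 : a ^ 2 ^ m * a ^ 2 ^ m = 1 := by
            rw [← pow_add, ← two_mul, ← pow_succ', ← hm, pow_orderOf_eq_one]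
          rcases H.uniq _ (A.pow_mem ha _) h1 with h2 | h2
          · exfalso
            have h3 := orderOf_dvd_of_pow_eq_one h2
            rw [hm] at h3
            have h4 := Nat.le_of_dvd (by positivity) h3
            have h5 : 2 ^ m < 2 ^ (m + 1) := Nat.pow_lt_pow_right (by norm_num) (by omega)
            omega
          · rw [← h2]; exact Subgroup.pow_mem _ (Subgroup.mem_zpowers a) _
      have hp := SE.isP_dih hk F'.vv hba
      exact hN (h2N t b F' ht hbS _ hp ((le_sup_left : Subgroup.zpowers a ≤ _) hta)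
        ((le_sup_right : Subgroup.zpowers b ≤ _) (Subgroup.mem_zpowers b))
        ((le_sup_left : Subgroup.zpowers a ≤ _) (Subgroup.mem_zpowers a)))
    have hAM : A ≤ M := by
      intro a ha
      obtain ⟨m, n, hn, hmn⟩ := Nat.exists_eq_two_pow_mul_odd (orderOf_pos a).ne'
      have h1 : a ^ n ∈ M := by
        refine hA2 _ (A.pow_mem ha n) ⟨m, ?_⟩
        rw [← pow_mul, mul_comm, ← hmn, pow_orderOf_eq_one]
      have h2 : a ^ 2 ^ m ∈ M := by
        apply hKt
        rw [H.mem_K]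
        refine ⟨H.comm_t _ (A.pow_mem ha _), ?_⟩
        have h3 : (a ^ 2 ^ m) ^ n = 1 := by rw [← pow_mul, ← hmn, pow_orderOf_eq_one]
        exact Odd.of_dvd_nat hn (orderOf_dvd_of_pow_eq_one h3)
      have hcop : Nat.Coprime n (2 ^ m) := Nat.Coprime.pow_right m (Nat.coprime_two_right.2 hn)
      have hb := Nat.gcd_eq_gcd_ab n (2 ^ m)
      rw [hcop] at hb
      have e : a = (a ^ n) ^ (Nat.gcdA n (2 ^ m)) * (a ^ 2 ^ m) ^ (Nat.gcdB n (2 ^ m)) := by
        rw [← zpow_natCast, ← zpow_natCast, ← zpow_mul, ← zpow_mul, ← zpow_add, ← hb, Nat.cast_one, zpow_one]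
      rw [e]
      exact M.mul_mem (M.zpow_mem h1 _) (M.zpow_mem h2 _)
    rcases H.mem_or c (Subgroup.mem_centralizer_singleton_iff.1 hc) with h | ⟨a, ha, h⟩
    · exact hAM h
    · obtain ⟨a0, ha0, hb0⟩ := H.outer F'.vv F'.v1 F'.ne.symm F'.comm.symm
      have hx : x ∈ M := by
        have e : x = a0⁻¹ * b := by rw [hb0]; group
        rw [e]
        exact M.mul_mem (M.inv_mem (hAM ha0)) hbM
      rw [h]
      exact M.mul_mem (hAM ha) hx

end Cfsg.Agent.GWP
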